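import Mathlib

set_option autoImplicit false
set_option backward.isDefEq.respectTransparency false
universe u

namespace Groth.Agent.H53.Birat

variable {R S : Type u} [CommRing R] [CommRing S] [Algebra R S]

/-- The "surjectivity" consequence of surjectivity of the local ring hom. -/
theorem exists_mul_eq_of_localRingHom_surjective (q : Ideal S) [q.IsPrime]
    (H : Function.Surjective (Localization.localRingHom (q.under R) q (algebraMap R S) rfl))
    (x : S) : ∃ a : R, ∃ b ∉ q.under R, ∃ c ∉ q,
      c * algebraMap R S a = c * (x * algebraMap R S b) := by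
  obtain ⟨y, hy⟩ := H (algebraMap S _ x)
  obtain ⟨a, ⟨b, hb⟩, rfl⟩ := IsLocalization.exists_mk'_eq (q.under R).primeCompl y
  rw [Localization.localRingHom_mk', IsLocalization.mk'_eq_iff_eq_mul, ← map_mul,
    IsLocalization.eq_iff_exists q.primeCompl] at hy
  obtain ⟨⟨c, hc⟩, hc'⟩ := hy
  exact ⟨a, b, hb, c, hc, hc'⟩

/-- The "injectivity" consequence of injectivity of the local ring hom. -/
theorem exists_mul_eq_zero_of_localRingHom_injective (q : Ideal S) [q.IsPrime]
    (H : Function.Injective (Localization.localRingHom (q.under R) q (algebraMap R S) rfl))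
    (a : R) (c : S) (hc : c ∉ q) (h : c * algebraMap R S a = 0) :
    ∃ b ∉ q.under R, b * a = 0 := by
  have h1 : algebraMap R (Localization.AtPrime (q.under R)) a = 0 := by
    apply H
    rw [Localization.localRingHom_to_map, map_zero]
    exact (IsLocalization.map_eq_zero_iff q.primeCompl _ _).2 ⟨⟨c, hc⟩, h⟩
  obtain ⟨⟨b, hb⟩, hb'⟩ := (IsLocalization.map_eq_zero_iff (q.under R).primeCompl _ _).1 h1
  exact ⟨b, hb, hb'⟩

/-- An element of `S` that becomes a unit in the localization away from `t ∉ q` is not in `q`. -/
theorem not_mem_of_isUnit_away (q : Ideal S) [q.IsPrime] (t : S) (ht : t ∉ q)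
    (T : Type u) [CommRing T] [Algebra S T] [IsLocalization.Away t T] (x : S)
    (hx : IsUnit (algebraMap S T x)) : x ∉ q := by
  intro hxq
  have hdisj : Disjoint (Submonoid.powers t : Set S) (q : Set S) :=
    (Ideal.disjoint_powers_iff_notMem _ (Ideal.IsPrime.isRadical inferInstance)).2 ht
  have hp : (q.map (algebraMap S T)).IsPrime :=
    IsLocalization.isPrime_of_isPrime_disjoint (Submonoid.powers t) T q inferInstance hdisj
  exact hp.ne_top (Ideal.eq_top_of_isUnit_mem _ (Ideal.mem_map_of_mem _ hxq) hx)

/-- Stage 1: spreading out surjectivity. -/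
theorem exists_away_surjective [Algebra.FiniteType R S] (q : Ideal S) [q.IsPrime]
    (H : Function.Surjective (Localization.localRingHom (q.under R) q (algebraMap R S) rfl)) :
    ∃ t ∉ q, ∃ r, r ∉ q.under R ∧ ∃ h : IsUnit (algebraMap R (Localization.Away t) r),
      Function.Surjective (IsLocalization.Away.lift (S := Localization.Away r) r h) := by
  classical
  obtain ⟨G, hG⟩ := (Algebra.FiniteType.out : (⊤ : Subalgebra R S).FG)
  choose a b hb c hc e using exists_mul_eq_of_localRingHom_surjective q H
  set β := ∏ i ∈ G, b i with hβdef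
  set γ := ∏ i ∈ G, c i with hγdef
  have hβ : β ∉ q.under R := fun h => by
    obtain ⟨i, _, hi⟩ := (Ideal.IsPrime.prod_mem_iff (hp := inferInstance)).1 h
    exact hb i hi
  have hγ : γ ∉ q := fun h => by
    obtain ⟨i, _, hi⟩ := (Ideal.IsPrime.prod_mem_iff (hp := inferInstance)).1 h
    exact hc i hi
  set t := γ * algebraMap R S β with htdef
  have ht : t ∉ q := fun h =>
    ((Ideal.IsPrime.mem_or_mem inferInstance h).elim hγ fun h' => hβ (Ideal.mem_comap.2 h'))
  let T := Localization.Away t
  have hut : IsUnit (algebraMap S T t) := IsLocalization.Away.algebraMap_isUnit t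
  have huγ : IsUnit (algebraMap S T γ) :=
    isUnit_of_dvd_unit (map_dvd _ (Dvd.intro _ rfl)) hut
  have huβ : IsUnit (algebraMap R T β) := by
    rw [IsScalarTower.algebraMap_apply R S T]
    exact isUnit_of_dvd_unit (map_dvd _ (Dvd.intro_left _ rfl)) hut
  have huc : ∀ i ∈ G, IsUnit (algebraMap S T (c i)) := fun i hi =>
    isUnit_of_dvd_unit (map_dvd _ (Finset.dvd_prod_of_mem c hi)) huγ
  -- the image of `S` lies in the range of `R_r → T` as soon as `β ∣ r`
  have hS : ∀ (r : R) (_ : β ∣ r) (hu : IsUnit (algebraMap R T r)) (x : S),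
      algebraMap S T x ∈ (IsLocalization.Away.liftAlgHom (S := Localization.Away r) (A := R) r
        (f := Algebra.ofId R T) hu).range := by
    intro r hr hu
    have h1 : (⊤ : Subalgebra R S).map (IsScalarTower.toAlgHom R S T) ≤
        (IsLocalization.Away.liftAlgHom (S := Localization.Away r) (A := R) r
          (f := Algebra.ofId R T) hu).range := by
      rw [← hG, AlgHom.map_adjoin, Algebra.adjoin_le_iff]
      rintro _ ⟨i, hi, rfl⟩
      have hbi : IsUnit (algebraMap R (Localization.Away r) (b i)) :=
        isUnit_of_dvd_unit (map_dvd _ ((Finset.dvd_prod_of_mem b hi).trans hr))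
          (IsLocalization.Away.algebraMap_isUnit r)
      refine ⟨algebraMap R _ (a i) * ↑hbi.unit⁻¹, ?_⟩
      have h2 := e i
      have h3 : algebraMap S T (algebraMap R S (a i)) =
          algebraMap S T i * algebraMap S T (algebraMap R S (b i)) := by
        have := congrArg (algebraMap S T) h2
        rw [map_mul, map_mul, map_mul] at this
        exact (huc i hi).mul_left_cancel this
      set L := IsLocalization.Away.liftAlgHom (S := Localization.Away r) (A := R) r
        (f := Algebra.ofId R T) hu with hL
      have hLb : L (algebraMap R _ (b i)) = algebraMap R T (b i) := AlgHom.commutes L _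
      have hub : IsUnit (algebraMap R T (b i)) := hLb ▸ hbi.map L
      change L (algebraMap R _ (a i) * ↑hbi.unit⁻¹) = algebraMap S T i
      apply hub.mul_right_cancel
      rw [← hLb, ← map_mul, mul_assoc, IsUnit.val_inv_mul, mul_one, AlgHom.commutes,
        AlgHom.commutes, IsScalarTower.algebraMap_apply R S T, h3,
        ← IsScalarTower.algebraMap_apply R S T]
    exact fun x => h1 ⟨x, trivial, rfl⟩
  obtain ⟨y, hy⟩ := hS β dvd_rfl huβ γ
  obtain ⟨d, ⟨_, k, rfl⟩, rfl⟩ := IsLocalization.exists_mk'_eq (Submonoid.powers β) y
  have hd : algebraMap R T d = algebraMap R T β ^ k * algebraMap S T γ := by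
    have hy' : IsLocalization.Away.lift (S := Localization.Away β) β (g := algebraMap R T) huβ
        (IsLocalization.mk' _ d (⟨β ^ k, k, rfl⟩ : Submonoid.powers β)) = algebraMap S T γ := hy
    rw [IsLocalization.Away.lift, IsLocalization.lift_mk'_spec] at hy'
    simpa using hy'
  have hud : IsUnit (algebraMap R T d) := hd ▸ (huβ.pow k).mul huγ
  have hdq : algebraMap R S d ∉ q :=
    not_mem_of_isUnit_away q t ht T _ (by rwa [← IsScalarTower.algebraMap_apply R S T])
  have hr : β * d ∉ q.under R := fun h =>
    (Ideal.IsPrime.mem_or_mem inferInstance h).elim hβ fun h' => hdq (Ideal.mem_comap.1 h')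
  have hur : IsUnit (algebraMap R T (β * d)) := by rw [map_mul]; exact huβ.mul hud
  refine ⟨t, ht, β * d, hr, hur, ?_⟩
  intro z
  set L := IsLocalization.Away.liftAlgHom (S := Localization.Away (β * d)) (A := R) (β * d)
    (f := Algebra.ofId R T) hur with hL
  suffices z ∈ L.range from this
  obtain ⟨x, ⟨_, n, rfl⟩, rfl⟩ := IsLocalization.exists_mk'_eq (Submonoid.powers t) z
  have hw : ∃ w ∈ L.range, w * algebraMap S T t = 1 := by
    have hrU : IsUnit (algebraMap R (Localization.Away (β * d)) (β * d)) :=
      IsLocalization.Away.algebraMap_isUnit _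
    refine ⟨L (algebraMap R _ (β ^ k) * ↑hrU.unit⁻¹), ⟨_, rfl⟩, ?_⟩
    have htT : algebraMap S T t = algebraMap S T γ * algebraMap R T β := by
      rw [IsScalarTower.algebraMap_apply R S T β, ← map_mul]
    have h4 : algebraMap S T t * algebraMap R T (β ^ k) = L (algebraMap R _ (β * d)) := by
      rw [AlgHom.commutes, map_mul (algebraMap R T), hd, htT, map_pow]
      ring
    rw [map_mul, AlgHom.commutes, mul_comm, ← mul_assoc, h4, ← map_mul, IsUnit.mul_val_inv,
      map_one]
  obtain ⟨w, hw, hw1⟩ := hw
  have h5 : IsLocalization.mk' T x (⟨t ^ n, n, rfl⟩ : Submonoid.powers t) =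
      algebraMap S T x * w ^ n := by
    rw [IsLocalization.mk'_eq_iff_eq_mul, mul_assoc]
    simp only [map_pow]
    rw [← mul_pow, hw1, one_pow, mul_one]
  rw [h5]
  exact L.range.mul_mem (hS _ (Dvd.intro _ rfl) hur x) (L.range.pow_mem hw n)

/-- If `R' → T` is surjective and `b` kills its kernel, the localization of `T` away from the
image of `b` is the localization of `R'` away from `b`. -/
theorem isLocalization_away_of_surjective {R' T T₁ : Type u} [CommRing R'] [CommRing T]
    [CommRing T₁] [Algebra R' T] [Algebra T T₁] [Algebra R' T₁] [IsScalarTower R' T T₁]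
    (hsurj : Function.Surjective (algebraMap R' T)) (b : R')
    (hb : ∀ k : R', algebraMap R' T k = 0 → b * k = 0)
    [IsLocalization.Away (algebraMap R' T b) T₁] : IsLocalization.Away b T₁ := by
  refine IsLocalization.Away.mk b ?_ (fun z => ?_) (fun x y h => ?_)
  · rw [IsScalarTower.algebraMap_apply R' T T₁]
    exact IsLocalization.Away.algebraMap_isUnit _
  · obtain ⟨n, y, hy⟩ := IsLocalization.Away.surj (algebraMap R' T b) z
    obtain ⟨x, rfl⟩ := hsurj y
    exact ⟨n, x, by
      rw [IsScalarTower.algebraMap_apply R' T T₁, IsScalarTower.algebraMap_apply R' T T₁ x, hy]⟩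
  · rw [IsScalarTower.algebraMap_apply R' T T₁, IsScalarTower.algebraMap_apply R' T T₁ y] at h
    obtain ⟨n, hn⟩ := IsLocalization.Away.exists_of_eq (algebraMap R' T b) h
    rw [← map_pow, ← map_mul, ← map_mul, ← sub_eq_zero, ← map_sub] at hn
    have h1 := hb _ hn
    exact ⟨n + 1, by linear_combination h1⟩

/-- The algebraic core: a finite type ring map which is an isomorphism on local rings at `q`
is, after localizing at some `t ∉ q`, a localization of the base away from an element,
provided it is of finite presentation or the base is a domain and `q` lies over `0`. -/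
theorem exists_away_isLocalization [Algebra.FiniteType R S] (q : Ideal S) [q.IsPrime]
    (H : Function.Bijective (Localization.localRingHom (q.under R) q (algebraMap R S) rfl))
    (h : Algebra.FinitePresentation R S ∨ (IsDomain R ∧ q.under R = ⊥)) :
    ∃ t ∉ q, ∃ r : R, ∃ (T : Type u) (_ : CommRing T) (_ : Algebra S T) (_ : Algebra R T)
      (_ : IsScalarTower R S T), IsLocalization.Away t T ∧ IsLocalization.Away r T := by
  classical
  obtain ⟨t, ht, r, hr, hu, hsurj⟩ := exists_away_surjective q H.2
  let T := Localization.Away t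
  let R' := Localization.Away r
  let ψ : R' →+* T := IsLocalization.Away.lift r hu
  let _ : Algebra R' T := ψ.toAlgebra
  have hψ : ∀ x, algebraMap R' T x = ψ x := fun _ => rfl
  have _ : IsScalarTower R R' T :=
    IsScalarTower.of_algebraMap_eq fun x => (IsLocalization.Away.lift_eq r hu x).symm
  have hinj : ∀ a : R, algebraMap R T a = 0 → ∃ b ∉ q.under R, b * a = 0 := by
    intro a ha
    rw [IsScalarTower.algebraMap_apply R S T,
      IsLocalization.map_eq_zero_iff (Submonoid.powers t)] at ha
    obtain ⟨⟨_, m, rfl⟩, hm⟩ := ha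
    exact exists_mul_eq_zero_of_localRingHom_injective q H.1 a (t ^ m)
      (fun h' => ht (Ideal.IsPrime.mem_of_pow_mem inferInstance m h')) hm
  have hker : ∀ k : R', algebraMap R' T k = 0 → ∃ (e : R) (s : Submonoid.powers r),
      k = IsLocalization.mk' R' e s ∧ ∃ b ∉ q.under R, b * e = 0 := by
    intro k hk
    obtain ⟨e, s, rfl⟩ := IsLocalization.exists_mk'_eq (Submonoid.powers r) k
    have h0 : algebraMap R T e = 0 := by
      rw [hψ] at hk
      have := (IsLocalization.lift_mk'_spec (M := Submonoid.powers r) _ e 0 s).1 hk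
      simpa using this
    exact ⟨e, s, rfl, hinj e h0⟩
  rcases h with hfp | ⟨hdom, hbot⟩
  · -- finitely presented case
    have _ : Algebra.FinitePresentation S T := IsLocalization.Away.finitePresentation t
    have _ : Algebra.FinitePresentation R T := Algebra.FinitePresentation.trans R S T
    have _ : Algebra.FinitePresentation R R' := IsLocalization.Away.finitePresentation r
    have _ : Algebra.FiniteType R R' := Algebra.FiniteType.of_finitePresentation
    have _ : Algebra.FinitePresentation R' T :=
      Algebra.FinitePresentation.of_restrict_scalars_finitePresentation R R' T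
    have hK : (RingHom.ker (algebraMap R' T)).FG :=
      Algebra.FinitePresentation.ker_fG_of_surjective (Algebra.ofId R' T) hsurj
    obtain ⟨F, hF⟩ := hK
    have hker' : ∀ k : R', ∃ b : R, algebraMap R' T k = 0 →
        b ∉ q.under R ∧ algebraMap R R' b * k = 0 := by
      intro k
      by_cases hk : algebraMap R' T k = 0
      · obtain ⟨e, s, rfl, b, hb, hbe⟩ := hker k hk
        refine ⟨b, fun _ => ⟨hb, ?_⟩⟩
        rw [← IsLocalization.mk'_one (M := Submonoid.powers r) R' b, ← IsLocalization.mk'_mul,
          hbe, IsLocalization.mk'_zero]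
      · exact ⟨0, fun h => absurd h hk⟩
    choose bb hbb using hker'
    set b := ∏ k ∈ F, bb k with hbdef
    have hFker : ∀ k ∈ F, algebraMap R' T k = 0 := fun k hk =>
      (RingHom.mem_ker).1 (hF ▸ Ideal.subset_span hk)
    have hbp : b ∉ q.under R := fun h => by
      obtain ⟨k, hk, hk'⟩ := (Ideal.IsPrime.prod_mem_iff (hp := inferInstance)).1 h
      exact (hbb k (hFker k hk)).1 hk'
    have hbK' : ∀ k ∈ Ideal.span (F : Set R'), algebraMap R R' b * k = 0 := by
      intro k hk'
      induction hk' using Submodule.span_induction with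
      | mem x hx =>
        obtain ⟨c, hc⟩ := Finset.dvd_prod_of_mem bb hx
        rw [hbdef, hc, map_mul, mul_right_comm, (hbb x (hFker x hx)).2, zero_mul]
      | zero => simp
      | add x y _ _ hx hy => rw [mul_add, hx, hy, add_zero]
      | smul a x _ hx => rw [smul_eq_mul, mul_left_comm, hx, mul_zero]
    have hbK : ∀ k : R', algebraMap R' T k = 0 → algebraMap R R' b * k = 0 := fun k hk =>
      hbK' k (hF ▸ (RingHom.mem_ker).2 hk)
    let y : T := algebraMap S T (algebraMap R S b)
    let T₁ := Localization.Away y
    have hy : algebraMap R' T (algebraMap R R' b) = y := by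
      rw [← IsScalarTower.algebraMap_apply R R' T, IsScalarTower.algebraMap_apply R S T]
    have _ : IsLocalization.Away (algebraMap R' T (algebraMap R R' b)) T₁ := by
      rw [hy]; exact (inferInstance : IsLocalization.Away y T₁)
    have h1 : IsLocalization.Away (algebraMap R R' b) T₁ :=
      isLocalization_away_of_surjective hsurj _ hbK
    have _ : IsScalarTower R R' T₁ := IsScalarTower.of_algebraMap_eq fun x =>
      (IsScalarTower.algebraMap_apply R T T₁ x).trans (by
        rw [IsScalarTower.algebraMap_apply R R' T x]
        exact (IsScalarTower.algebraMap_apply R' T T₁ _).symm)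
    have h2 : IsLocalization.Away (r * b) T₁ := IsLocalization.Away.mul' R' T₁ r b
    have h3 : IsLocalization.Away (algebraMap R S b * t) T₁ := inferInstance
    refine ⟨algebraMap R S b * t, ?_, r * b, T₁, inferInstance, inferInstance, inferInstance,
      inferInstance, h3, h2⟩
    exact fun h => (Ideal.IsPrime.mem_or_mem inferInstance h).elim
      (fun h' => hbp (Ideal.mem_comap.2 h')) ht
  · -- domain case
    have hinjψ : Function.Injective (algebraMap R' T) := by
      rw [injective_iff_map_eq_zero]
      intro k hk
      obtain ⟨e, s, rfl, b, hb, hbe⟩ := hker k hk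
      have hb0 : b ≠ 0 := fun h0 => hb (h0 ▸ Ideal.zero_mem _)
      rw [(mul_eq_zero.1 hbe).resolve_left hb0, IsLocalization.mk'_zero]
    have : IsLocalization (Submonoid.powers r) T :=
      IsLocalization.isLocalization_of_algEquiv (Submonoid.powers r)
        (AlgEquiv.ofBijective (IsScalarTower.toAlgHom R R' T) ⟨hinjψ, hsurj⟩)
    exact ⟨t, ht, r, T, inferInstance, inferInstance, inferInstance, inferInstance,
      inferInstance, this⟩

end Groth.Agent.H53.Birat
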