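import Groth.Agent.H53.Birat.Dense
import Groth.Agent.Lib.Helper54.DecentPts

set_option autoImplicit false
set_option backward.isDefEq.respectTransparency false
universe u
open CategoryTheory CategoryTheory.Limits AlgebraicGeometry AlgSp Topology
open Groth.Agent.Lib.Helper54 Groth.Agent.H53.GenFin

namespace Groth.Agent.H53.Birat

variable {S : Scheme.{u}}

theorem isIso_of_isIso_specMap {A B : CommRingCat.{u}} (φ : A ⟶ B) [IsIso (Spec.map φ)] :
    IsIso φ := by
  refine ⟨Spec.preimage (inv (Spec.map φ)), ?_, ?_⟩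
  · apply Spec.map_injective
    rw [Spec.map_comp, Spec.map_preimage, IsIso.inv_hom_id, Spec.map_id]
  · apply Spec.map_injective
    rw [Spec.map_comp, Spec.map_preimage, IsIso.hom_inv_id, Spec.map_id]

/-- S10434 for an étale chart. -/
theorem isIso_snd_of_isBirational_etale {X Y : Sp S} (hX : IsAlgSpace X) (hXd : IsDecent X)
    (hY : IsAlgSpace Y) (hYd : IsDecent Y)
    (hYf : (irreducibleComponents (Points Y)).Finite) (f : X ⟶ Y)
    (hf : W4stk3decentspacesp2.IsBirational f) {V : Over S} (b : (yon S).obj V ⟶ Y)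
    (hb : RepWith @Etale b) (v : ↥V.left)
    (hv : Points.ofPt b v ∈ genericPoints (Points Y)) {P : Sp S} (fst : P ⟶ X)
    (snd : P ⟶ (yon S).obj (Over.mk (V.left.fromSpecStalk v ≫ V.hom)))
    (hP : IsPullback fst snd f ((yon S).map (Over.homMk (V.left.fromSpecStalk v) rfl) ≫ b)) :
    IsIso snd := by
  have hdim : ringKrullDim ↥(V.left.presheaf.stalk v) = 0 :=
    (ringKrullDim_stalk_eq_zero_iff_of_isDecent hY hYd b hb _).2 hv
  have hsub := subsingleton_spec_stalk_of_dim_zero _ hdim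
  obtain ⟨Y', bY, hbY, hbYr, -⟩ := exists_schematic_open hY
  have hyloc : Points.ofPt b v ∈ ZarGlue.schematicLocus Y :=
    mem_of_dense_of_mem_genericPoints hYf _ (ZarGlue.isOpen_schematicLocus Y)
      (dense_schematicLocus_of_isDecent hY hYd) _ hv
  obtain ⟨y', hy'⟩ : Points.ofPt b v ∈ Set.range (Points.ofPt bY) := hbYr ▸ hyloc
  let Z : Over S := Over.mk (V.left.fromSpecStalk v ≫ V.hom)
  let ψ : Z ⟶ V := Over.homMk (V.left.fromSpecStalk v) rfl
  have hptZ : ∀ ζ : ↥Z.left, Points.ofPt ((yon S).map ψ ≫ b) ζ = Points.ofPt bY y' := by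
    intro ζ
    rw [H53.ofPt_yon_map_comp, hy']
    congr 1
    change V.left.fromSpecStalk v ζ = v
    have hz : (ζ : ↥(Spec (V.left.presheaf.stalk v))) = IsLocalRing.closedPoint _ :=
      hsub.elim _ _
    rw [hz, Scheme.fromSpecStalk_closedPoint]
  obtain ⟨φ₀, hφ₀⟩ := H53.exists_factor_of_range_subset bY hbY ((yon S).map ψ ≫ b) (by
    rintro _ ⟨ξ, rfl⟩
    obtain ⟨ζ, rfl⟩ := (Points.schemeEquiv Z).surjective ξ
    refine ⟨Points.ofScheme Y' y', ?_⟩
    rw [← Points.ofPt_eq_map_ofScheme, ← hptZ ζ]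
    exact Points.ofPt_eq_map_ofScheme _ _)
  obtain ⟨φ, rfl⟩ := (yon S).map_surjective φ₀
  have hφy : ∀ ζ : ↥Z.left, φ.left ζ = y' := by
    intro ζ
    apply injective_ofPt_of_isOpenImmersion bY hbY
    rw [← H53.ofPt_yon_map_comp, hφ₀, hptZ]
  have : IsAffine Z.left := inferInstanceAs (IsAffine (Spec (V.left.presheaf.stalk v)))
  obtain ⟨φ', hφ'⟩ := exists_lift_fromSpecStalk φ.left y' hφy
  let Z' : Over S := Over.mk (Y'.left.fromSpecStalk y' ≫ Y'.hom)
  let ψ' : Z' ⟶ Y' := Over.homMk (Y'.left.fromSpecStalk y') rfl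
  let φS : Z ⟶ Z' := Over.homMk φ' (by
    change φ' ≫ Y'.left.fromSpecStalk y' ≫ Y'.hom = Z.hom
    rw [reassoc_of% hφ', Over.w φ])
  have hφS : φS ≫ ψ' = φ := by
    ext
    exact hφ'
  have hc : (yon S).map ψ ≫ b = (yon S).map φS ≫ ((yon S).map ψ' ≫ bY) := by
    rw [← Category.assoc, ← Functor.map_comp, hφS, hφ₀]
  have sq' := IsPullback.of_hasPullback f ((yon S).map ψ' ≫ bY)
  have hy'gen : Points.ofPt bY y' ∈ genericPoints (Points Y) := hy' ▸ hv
  have hiso' : IsIso (pullback.snd f ((yon S).map ψ' ≫ bY)) :=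
    isIso_snd_of_isBirational hX hXd hY hYd f hf bY hbY y' hy'gen _ _ sq'
  have hP' : IsPullback fst snd f ((yon S).map φS ≫ ((yon S).map ψ' ≫ bY)) := hc ▸ hP
  exact (IsPullback.of_bot' hP'.flip sq'.flip).isIso_fst_of_isIso

end Groth.Agent.H53.Birat
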