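import Groth.Agent.H53.Birat.BCIso

set_option autoImplicit false
set_option backward.isDefEq.respectTransparency false
universe u
open CategoryTheory CategoryTheory.Limits AlgebraicGeometry AlgSp Topology
open Groth.Agent.Lib.Helper54 Groth.Agent.H53.GenFin

namespace Groth.Agent.H53.Birat

variable {S : Scheme.{u}}

/-- If the base change of `snd : P ⟶ h_V` to `Spec 𝒪_{V,v}` (a one-point scheme) is an
isomorphism, then all points of `P` over `v` coincide. -/
theorem eq_of_map_snd_eq {P : Sp S} {V : Over S} (snd : P ⟶ (yon S).obj V) (v : ↥V.left)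
    (hiso : IsIso (pullback.snd snd ((yon S).map (Over.homMk (V.left.fromSpecStalk v) rfl :
      Over.mk (V.left.fromSpecStalk v ≫ V.hom) ⟶ V))))
    (z z' : Points P) (hz : Points.map snd z = Points.ofScheme V v)
    (hz' : Points.map snd z' = Points.ofScheme V v) : z = z' := by
  let Z : Over S := Over.mk (V.left.fromSpecStalk v ≫ V.hom)
  let ψ : Z ⟶ V := Over.homMk (V.left.fromSpecStalk v) rfl
  have sq := IsPullback.of_hasPullback snd ((yon S).map ψ)
  let pt : ↥Z.left := (IsLocalRing.closedPoint (V.left.presheaf.stalk v) :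
    ↥(Spec (V.left.presheaf.stalk v)))
  have hpt : Points.map ((yon S).map ψ) (Points.ofScheme Z pt) = Points.ofScheme V v := by
    rw [← Points.ofPt_eq_map_ofScheme, FibrePts.ofPt_yon_map]
    congr 1
    exact Scheme.fromSpecStalk_closedPoint
  obtain ⟨q, hq1, hq2⟩ := H52.exists_point_of_isPullback sq z _ (hz.trans hpt.symm)
  obtain ⟨q', hq'1, hq'2⟩ := H52.exists_point_of_isPullback sq z' _ (hz'.trans hpt.symm)
  have hinj : Function.Injective (Points.map (pullback.snd snd ((yon S).map ψ))) := by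
    intro a b hab
    have := congrArg (Points.map (inv (pullback.snd snd ((yon S).map ψ)))) hab
    rwa [← Points.map_comp, ← Points.map_comp, IsIso.hom_inv_id, Points.map_id, Points.map_id] at this
  have : q = q' := hinj (hq2.trans hq'2.symm)
  rw [← hq1, ← hq'1, this]

/-- If the base change of `snd : P ⟶ h_V` to the one-point scheme `Spec 𝒪_{V,v}` is an
isomorphism, then `snd` induces an isomorphism of local rings at any point over `v` of any open
subscheme of `P`. -/
theorem isIso_stalkMap_of_isIso_pullback {P : Sp S} {V U₁ : Over S}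
    (snd : P ⟶ (yon S).obj V) (a₁ : (yon S).obj U₁ ⟶ P) (ha₁ : RepWith @IsOpenImmersion a₁)
    (g : U₁ ⟶ V) (hg : (yon S).map g = a₁ ≫ snd) (u₁ : ↥U₁.left)
    (hsub : Subsingleton ↥(Spec (V.left.presheaf.stalk (g.left u₁))))
    (hiso : IsIso (pullback.snd snd ((yon S).map
      (Over.homMk (V.left.fromSpecStalk (g.left u₁)) rfl :
        Over.mk (V.left.fromSpecStalk (g.left u₁) ≫ V.hom) ⟶ V)))) :
    IsIso (g.left.stalkMap u₁) := by
  have hma : Mono a₁ := GenFin.mono_of_isOpenImmersion a₁ ha₁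
  let Z : Over S := Over.mk (V.left.fromSpecStalk (g.left u₁) ≫ V.hom)
  let ψ : Z ⟶ V := Over.homMk (V.left.fromSpecStalk (g.left u₁)) rfl
  have sq := IsPullback.of_hasPullback snd ((yon S).map ψ)
  let σ₀ : (yon S).obj Z ⟶ P :=
    inv (pullback.snd snd ((yon S).map ψ)) ≫ pullback.fst snd ((yon S).map ψ)
  have hσ₀ : σ₀ ≫ snd = (yon S).map ψ := by
    simp only [σ₀, Category.assoc]
    rw [sq.w, IsIso.inv_hom_id_assoc]
  have hpts : ∀ ζ : ↥Z.left, Points.ofPt σ₀ ζ = Points.ofPt a₁ u₁ := by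
    intro ζ
    apply eq_of_map_snd_eq snd (g.left u₁) hiso
    · rw [Points.map_ofPt, hσ₀, FibrePts.ofPt_yon_map]
      congr 1
      change V.left.fromSpecStalk (g.left u₁) ζ = g.left u₁
      have hz : (ζ : ↥(Spec (V.left.presheaf.stalk (g.left u₁)))) =
          IsLocalRing.closedPoint _ := hsub.elim _ _
      rw [hz, Scheme.fromSpecStalk_closedPoint]
    · rw [Points.map_ofPt, ← hg, FibrePts.ofPt_yon_map]
  obtain ⟨σ₁, hσ₁⟩ := H53.exists_factor_of_range_subset a₁ ha₁ σ₀ (by
    rintro _ ⟨ξ, rfl⟩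
    obtain ⟨ζ, rfl⟩ := (Points.schemeEquiv Z).surjective ξ
    refine ⟨Points.ofScheme U₁ u₁, ?_⟩
    rw [← Points.ofPt_eq_map_ofScheme, ← hpts ζ]
    exact Points.ofPt_eq_map_ofScheme _ _)
  obtain ⟨σ, rfl⟩ := (yon S).map_surjective σ₁
  have hσg : σ ≫ g = ψ := by
    apply (yon S).map_injective
    rw [Functor.map_comp, hg, reassoc_of% hσ₁, hσ₀]
  have hσu : ∀ ζ : ↥Z.left, σ.left ζ = u₁ := by
    intro ζ
    apply injective_ofPt_of_isOpenImmersion a₁ ha₁
    rw [← H53.ofPt_yon_map_comp, hσ₁, hpts]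
  have : IsAffine Z.left :=
    inferInstanceAs (IsAffine (Spec (V.left.presheaf.stalk (g.left u₁))))
  obtain ⟨σ', hσ'⟩ := exists_lift_fromSpecStalk σ.left u₁ hσu
  have h1 : σ' ≫ Spec.map (g.left.stalkMap u₁) = 𝟙 _ := by
    rw [← cancel_mono (V.left.fromSpecStalk (g.left u₁)), Category.assoc,
      Scheme.SpecMap_stalkMap_fromSpecStalk, reassoc_of% hσ', Category.id_comp]
    exact congrArg (fun t => t.left) hσg
  -- the other composite
  let E : Over S := Over.mk (U₁.left.fromSpecStalk u₁ ≫ U₁.hom)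
  let t₁ : E ⟶ U₁ := Over.homMk (U₁.left.fromSpecStalk u₁) rfl
  let κ : E ⟶ Z := Over.homMk (Spec.map (g.left.stalkMap u₁)) (by
    change Spec.map (g.left.stalkMap u₁) ≫ V.left.fromSpecStalk (g.left u₁) ≫ V.hom = E.hom
    rw [Scheme.SpecMap_stalkMap_fromSpecStalk_assoc, Over.w g]
    rfl)
  have hκ : t₁ ≫ g = κ ≫ ψ := by
    ext
    exact (Scheme.SpecMap_stalkMap_fromSpecStalk (f := g.left) (x := u₁)).symm
  have hm : (yon S).map t₁ ≫ a₁ = (yon S).map (κ ≫ σ) ≫ a₁ := by
    have e1 : ((yon S).map t₁ ≫ a₁) ≫ snd = (yon S).map κ ≫ (yon S).map ψ := by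
      rw [Category.assoc, ← hg, ← Functor.map_comp, hκ, Functor.map_comp]
    have e2 : ((yon S).map (κ ≫ σ) ≫ a₁) ≫ snd = (yon S).map κ ≫ (yon S).map ψ := by
      rw [Category.assoc, ← hg, ← Functor.map_comp, Category.assoc, hσg, Functor.map_comp]
    have hl : sq.lift _ _ e1 = sq.lift _ _ e2 := by
      rw [← cancel_mono (pullback.snd snd ((yon S).map ψ)), sq.lift_snd, sq.lift_snd]
    rw [← sq.lift_fst _ _ e1, hl, sq.lift_fst]
  have ht : t₁ = κ ≫ σ := (yon S).map_injective ((cancel_mono a₁).1 hm)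
  have h2 : Spec.map (g.left.stalkMap u₁) ≫ σ' = 𝟙 _ := by
    rw [← cancel_mono (U₁.left.fromSpecStalk u₁), Category.assoc, hσ', Category.id_comp]
    exact (congrArg (fun t => t.left) ht).symm
  have : IsIso (Spec.map (g.left.stalkMap u₁)) := ⟨σ', h2, h1⟩
  exact isIso_of_isIso_specMap _

end Groth.Agent.H53.Birat
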