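import Groth.Agent.H53.Birat.BCStalk

set_option autoImplicit false
set_option backward.isDefEq.respectTransparency false
universe u
open CategoryTheory CategoryTheory.Limits AlgebraicGeometry AlgSp Topology
open Groth.Agent.Lib.Helper54 Groth.Agent.H53.GenFin

namespace Groth.Agent.H53.Birat

variable {S : Scheme.{u}}

theorem finite_irreducibleComponents_of_finite_genericPoints {T : Type*} [TopologicalSpace T]
    [QuasiSober T] (h : (genericPoints T).Finite) : (irreducibleComponents T).Finite := by
  refine (h.image (fun x => closure ({x} : Set T))).subset ?_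
  intro Z hZ
  obtain ⟨x, hx⟩ := QuasiSober.sober hZ.1 (isClosed_of_mem_irreducibleComponents Z hZ)
  refine ⟨x, ?_, hx.def⟩
  change closure {x} ∈ irreducibleComponents T
  rw [hx.def]; exact hZ

/-- Étale morphisms send generic points to generic points (decent spaces). -/
theorem map_mem_genericPoints_of_etale {P X : Sp S} (hP : IsAlgSpace P) (hPd : IsDecent P)
    (hX : IsAlgSpace X) (hXd : IsDecent X) (fst : P ⟶ X) (hfst : RepWith @Etale fst)
    (z : Points P) (hz : z ∈ genericPoints (Points P)) :
    Points.map fst z ∈ genericPoints (Points X) := by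
  have hE : (RepWith (S := S) @Etale).IsMultiplicative := repWith_isMultiplicative _
  obtain ⟨U, a, u, ha, rfl, hdim⟩ := (isGenericPoint_component_iff_hasAt hP hPd z).1 ⟨_, hz, rfl⟩
  obtain ⟨T, hT, hgen⟩ := (isGenericPoint_component_iff_hasAt hX hXd _).2
    ⟨U, a ≫ fst, u, hE.comp_mem _ _ ha hfst, rfl, hdim⟩
  change closure {_} ∈ irreducibleComponents (Points X)
  rw [Points.map_ofPt, hgen.def]
  exact hT

/-- S10437. -/
theorem isBirational_baseChange_affine_etale {X Y : Sp S} (hX : IsAlgSpace X) (hXd : IsDecent X)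
    (hY : IsAlgSpace Y) (hYd : IsDecent Y)
    (hYf : (irreducibleComponents (Points Y)).Finite) (f : X ⟶ Y)
    (hf : W4stk3decentspacesp2.IsBirational f) {V : Over S} [IsAffine V.left]
    (b : (yon S).obj V ⟶ Y) (hb : RepWith @Etale b) {P : Sp S} (fst : P ⟶ X)
    (snd : P ⟶ (yon S).obj V) (hP : IsPullback fst snd f b) :
    IsDecent P ∧ (irreducibleComponents (Points P)).Finite ∧
      (irreducibleComponents (Points ((yon S).obj V))).Finite ∧
      W4stk3decentspacesp2.IsBirational snd := by
  have hVa : IsAlgSpace ((yon S).obj V) := IsAlgSpace.yon_obj V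
  have hVd : IsDecent ((yon S).obj V) := isDecent_yon_obj V
  have hPa : IsAlgSpace P := H52.isAlgSpace_of_isPullback hP hX hY hVa
  have hfst : RepWith @Etale fst := MorphismProperty.of_isPullback hP.flip hb
  have hPd : IsDecent P := isDecent_of_representable fst hfst.rep hXd
  have := t0Space_points_of_isDecent hVa hVd
  have := quasiSober_points_of_isDecent hVa hVd
  have := t0Space_points_of_isDecent hPa hPd
  have := quasiSober_points_of_isDecent hPa hPd
  have := t0Space_points_of_isDecent hY hYd
  -- generic points of `V`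
  have hgenV : ∀ v : ↥V.left, Points.ofScheme V v ∈ genericPoints (Points ((yon S).obj V)) ↔
      Points.ofPt b v ∈ genericPoints (Points Y) := by
    intro v
    have h1 := ringKrullDim_stalk_eq_zero_iff_of_isDecent hVa hVd (𝟙 _)
      (repWith_id (@Etale : MorphismProperty Scheme.{u}) V) v
    have h2 := ringKrullDim_stalk_eq_zero_iff_of_isDecent hY hYd b hb v
    exact h1.symm.trans h2
  have hVfin : (genericPoints (Points ((yon S).obj V))).Finite := by
    have hfib : ∀ η ∈ genericPoints (Points Y), (Points.ofPt b ⁻¹' {η}).Finite := by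
      intro η _
      obtain ⟨p, rfl, -, hq⟩ := hYd η
      exact finite_fibre_of_quasiCompact_point p hq b hb
    refine (((finite_genericPoints hYf).biUnion hfib).image (Points.ofScheme V)).subset ?_
    intro w hw
    obtain ⟨v, rfl⟩ := exists_ofScheme_eq V w
    exact ⟨v, Set.mem_iUnion₂.2 ⟨_, (hgenV v).1 hw, rfl⟩, rfl⟩
  -- the base change to the local ring at a generic point is an isomorphism
  have hisoV : ∀ v : ↥V.left, Points.ofPt b v ∈ genericPoints (Points Y) →
      IsIso (pullback.snd snd ((yon S).map (Over.homMk (V.left.fromSpecStalk v) rfl :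
        Over.mk (V.left.fromSpecStalk v ≫ V.hom) ⟶ V))) := by
    intro v hv
    have sqv := IsPullback.of_hasPullback snd ((yon S).map (Over.homMk (V.left.fromSpecStalk v) rfl :
        Over.mk (V.left.fromSpecStalk v ≫ V.hom) ⟶ V))
    have big := (sqv.flip.paste_vert hP.flip).flip
    exact isIso_snd_of_isBirational_etale hX hXd hY hYd hYf f hf b hb v hv _ _ big
  -- points of `P` over generic points of `V`
  have hsndb : ∀ (z : Points P) (v : ↥V.left), Points.map snd z = Points.ofScheme V v →
      Points.ofPt b v = Points.map f (Points.map fst z) := by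
    intro z v hzv
    rw [Points.ofPt_eq_map_ofScheme, ← hzv, ← Points.map_comp, ← Points.map_comp, hP.w]
  have hgenP : ∀ z ∈ genericPoints (Points P), ∀ v : ↥V.left,
      Points.map snd z = Points.ofScheme V v → Points.ofPt b v ∈ genericPoints (Points Y) := by
    intro z hz v hzv
    rw [hsndb z v hzv]
    exact hf.bijOn.mapsTo (map_mem_genericPoints_of_etale hPa hPd hX hXd fst hfst z hz)
  have hinj : Set.InjOn (Points.map snd) (genericPoints (Points P)) := by
    intro z hz z' _ hzz'
    obtain ⟨v, hv⟩ := exists_ofScheme_eq V (Points.map snd z)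
    exact eq_of_map_snd_eq snd v (hisoV v (hgenP z hz v hv.symm)) z z' hv.symm
      (hzz' ▸ hv.symm)
  have hmaps : Set.MapsTo (Points.map snd) (genericPoints (Points P))
      (genericPoints (Points ((yon S).obj V))) := by
    intro z hz
    obtain ⟨v, hv⟩ := exists_ofScheme_eq V (Points.map snd z)
    rw [← hv]
    exact (hgenV v).2 (hgenP z hz v hv.symm)
  have hPfin : (genericPoints (Points P)).Finite :=
    Set.Finite.of_finite_image (hVfin.subset hmaps.image_subset) hinj
  have hPf : (irreducibleComponents (Points P)).Finite :=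
    finite_irreducibleComponents_of_finite_genericPoints hPfin
  refine ⟨hPd, hPf, finite_irreducibleComponents_of_finite_genericPoints hVfin, ⟨⟨hmaps, hinj, ?_⟩, ?_⟩⟩
  · -- surjectivity on generic points
    intro w hw
    obtain ⟨v, rfl⟩ := exists_ofScheme_eq V w
    have hv := (hgenV v).1 hw
    obtain ⟨x, hx, hxv⟩ := hf.bijOn.surjOn hv
    obtain ⟨z, hz1, hz2⟩ := H52.exists_point_of_isPullback hP x (Points.ofScheme V v)
      (by rw [hxv, Points.ofPt_eq_map_ofScheme])
    refine ⟨z, ?_, hz2⟩
    obtain ⟨z₀, hz₀, hs⟩ := exists_genericPoint_specializes z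
    have h1 : Points.map snd z₀ = Points.ofScheme V v := by
      have := hs.map (Points.continuous_map snd)
      rw [hz2] at this
      exact eq_of_specializes_of_mem_genericPoints this hw
    have : z₀ = z := eq_of_map_snd_eq snd v (hisoV v hv) z₀ z h1 hz2
    exact this ▸ hz₀
  · -- local rings
    intro z hz
    have hzloc : z ∈ ZarGlue.schematicLocus P :=
      mem_of_dense_of_mem_genericPoints hPf _ (ZarGlue.isOpen_schematicLocus P)
        (dense_schematicLocus_of_isDecent hPa hPd) z hz
    obtain ⟨U₁, a₁, ha₁, ha₁r, -⟩ := exists_schematic_open hPa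
    obtain ⟨u₁, rfl⟩ : z ∈ Set.range (Points.ofPt a₁) := ha₁r ▸ hzloc
    obtain ⟨g, hg⟩ := (yon S).map_surjective (a₁ ≫ snd)
    have hzv : Points.map snd (Points.ofPt a₁ u₁) = Points.ofScheme V (g.left u₁) := by
      rw [Points.map_ofPt, ← hg, FibrePts.ofPt_yon_map]
    have hv := hgenP _ hz _ hzv
    have hdim : ringKrullDim ↥(V.left.presheaf.stalk (g.left u₁)) = 0 :=
      (ringKrullDim_stalk_eq_zero_iff_of_isDecent hY hYd b hb _).2 hv
    have hsub := subsingleton_spec_stalk_of_dim_zero _ hdim
    refine ⟨U₁, V, a₁, 𝟙 _, g, u₁, ha₁,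
      repWith_id (@IsOpenImmersion : MorphismProperty Scheme.{u}) V, ?_, rfl,
      isIso_stalkMap_of_isIso_pullback snd a₁ ha₁ g hg u₁ hsub (hisoV _ hv)⟩
    rw [Category.comp_id, hg]

end Groth.Agent.H53.Birat
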