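import Groth.Agent.H53.Birat.LocalOI

set_option autoImplicit false
set_option backward.isDefEq.respectTransparency false
universe u
open CategoryTheory AlgebraicGeometry TopologicalSpace Topology

namespace Groth.Agent.H53.Birat

theorem isIso_stalkMap_of_comp {V X Y : Scheme.{u}} (j : V ⟶ X) (g : X ⟶ Y) (v : V)
    [IsIso (j.stalkMap v)] [IsIso ((j ≫ g).stalkMap v)] : IsIso (g.stalkMap (j v)) := by
  have h1 : IsIso (g.stalkMap (j v) ≫ j.stalkMap v) := by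
    rw [← Scheme.Hom.stalkMap_comp]; infer_instance
  exact IsIso.of_isIso_comp_right (g.stalkMap (j v)) (j.stalkMap v)

/-- An injective morphism which is locally on the source an open immersion is an open
immersion. -/
theorem isOpenImmersion_of_local_of_injective {X Y : Scheme.{u}} (g : X ⟶ Y)
    (hinj : Function.Injective g)
    (hloc : ∀ x : X, ∃ (V : Scheme.{u}) (j : V ⟶ X), IsOpenImmersion j ∧ x ∈ Set.range j ∧
      IsOpenImmersion (j ≫ g)) : IsOpenImmersion g := by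
  have hst : ∀ x, IsIso (g.stalkMap x) := by
    intro x
    obtain ⟨V, j, hj, ⟨v, rfl⟩, hjg⟩ := hloc x
    exact isIso_stalkMap_of_comp j g v
  refine IsOpenImmersion.of_isIso_stalkMap g ?_
  refine IsOpenEmbedding.of_continuous_injective_isOpenMap g.continuous hinj ?_
  rw [isOpenMap_iff_nhds_le]
  intro x
  obtain ⟨V, j, hj, ⟨v, rfl⟩, hjg⟩ := hloc x
  have h1 : 𝓝 ((j ≫ g) v) ≤ Filter.map (j ≫ g) (𝓝 v) :=
    (j ≫ g).isOpenEmbedding.isOpenMap.nhds_le v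
  have h2 : Filter.map j (𝓝 v) = 𝓝 (j v) := j.isOpenEmbedding.map_nhds_eq v
  rw [← h2, Filter.map_map]
  exact h1

/-- Gluing local open immersions around finitely many generic points. -/
theorem exists_opens_isOpenImmersion_of_finite {X Y : Scheme.{u}} (f : X ⟶ Y) (G : Set X)
    (hG : G.Finite) (hcov : ∀ z : X, ∃ x ∈ G, x ⤳ z)
    (hGgen : ∀ x ∈ G, ∀ x' ∈ G, x' ⤳ x → x' = x) (hinj : Set.InjOn f G)
    (hY : ∀ W : Y.Opens, (W : Set Y).Nonempty → ∃ y ∈ W, ∀ y' : Y, y' ⤳ y → y' = y)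
    (hloc : ∀ x ∈ G, ∃ U : X.Opens, x ∈ U ∧ IsOpenImmersion (U.ι ≫ f)) :
    ∃ U : X.Opens, G ⊆ U ∧ IsOpenImmersion (U.ι ≫ f) := by
  classical
  choose! Ux hxU hOI using hloc
  have hclosed : ∀ x, IsClosed (⋃ x' ∈ G \ {x}, closure ({x'} : Set X)) := fun x =>
    (hG.subset Set.sdiff_subset).isClosed_biUnion fun _ _ => isClosed_closure
  let A : X → X.Opens := fun x =>
    ⟨(⋃ x' ∈ G \ {x}, closure ({x'} : Set X))ᶜ, (hclosed x).isOpen_compl⟩
  let V : X → X.Opens := fun x => Ux x ⊓ A x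
  have hxV : ∀ x ∈ G, x ∈ V x := by
    intro x hx
    refine ⟨hxU x hx, ?_⟩
    intro hmem
    obtain ⟨x', ⟨hx'G, hx'ne⟩, hx'⟩ := Set.mem_iUnion₂.1 hmem
    exact hx'ne (hGgen x hx x' hx'G (specializes_iff_mem_closure.2 hx'))
  have hspec : ∀ x ∈ G, ∀ z ∈ V x, x ⤳ z := by
    intro x hx z hz
    obtain ⟨g, hg, hgz⟩ := hcov z
    by_cases hgx : g = x
    · exact hgx ▸ hgz
    · exact absurd (Set.mem_iUnion₂.2 ⟨g, ⟨hg, hgx⟩, specializes_iff_mem_closure.1 hgz⟩) hz.2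
  have hopen : ∀ x ∈ G, IsOpen (f '' (V x : Set X)) := by
    intro x hx
    have : f '' (V x : Set X) = ((Ux x).ι ≫ f) '' ((Ux x).ι ⁻¹' (V x : Set X)) := by
      ext y
      constructor
      · rintro ⟨z, hz, rfl⟩
        exact ⟨⟨z, hz.1⟩, hz, rfl⟩
      · rintro ⟨z, hz, rfl⟩
        exact ⟨z.1, hz, rfl⟩
    rw [this]
    have := hOI x hx
    exact ((Ux x).ι ≫ f).isOpenEmbedding.isOpenMap _ ((V x).2.preimage (Ux x).ι.continuous)
  have hinjU : ∀ x ∈ G, ∀ z ∈ Ux x, ∀ z' ∈ Ux x, f z = f z' → z = z' := by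
    intro x hx z hz z' hz' h
    have := hOI x hx
    have h1 := ((Ux x).ι ≫ f).isOpenEmbedding.injective (a₁ := ⟨z, hz⟩) (a₂ := ⟨z', hz'⟩) h
    exact congrArg Subtype.val h1
  let U : X.Opens := ⨆ x : G, V x
  have hmemU : ∀ z, z ∈ U ↔ ∃ x : G, z ∈ V x := fun z => Opens.mem_iSup
  refine ⟨U, fun x hx => (hmemU x).2 ⟨⟨x, hx⟩, hxV x hx⟩, ?_⟩
  apply isOpenImmersion_of_local_of_injective
  · rintro ⟨z, hz⟩ ⟨z', hz'⟩ h
    have h' : f z = f z' := h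
    obtain ⟨⟨x, hx⟩, hzx⟩ := (hmemU z).1 hz
    obtain ⟨⟨x', hx'⟩, hzx'⟩ := (hmemU z').1 hz'
    have hxx' : x = x' := by
      obtain ⟨y, ⟨⟨w, hw, hwy⟩, ⟨w', hw', hwy'⟩⟩, hymin⟩ :=
        hY ⟨f '' (V x : Set X) ∩ f '' (V x' : Set X), (hopen x hx).inter (hopen x' hx')⟩
          ⟨f z, ⟨z, hzx, rfl⟩, ⟨z', hzx', h'.symm⟩⟩
      have h1 : f x = y := hymin _ (hwy ▸ (hspec x hx w hw).map f.continuous)
      have h2 : f x' = y := hymin _ (hwy' ▸ (hspec x' hx' w' hw').map f.continuous)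
      exact hinj hx hx' (h1.trans h2.symm)
    subst hxx'
    exact Subtype.ext (hinjU x hx z hzx.1 z' hzx'.1 h')
  · rintro ⟨z, hz⟩
    obtain ⟨⟨x, hx⟩, hzx⟩ := (hmemU z).1 hz
    refine ⟨(Ux x ⊓ U).toScheme, X.homOfLE inf_le_right, inferInstance,
      ⟨⟨z, hzx.1, hz⟩, ?_⟩, ?_⟩
    · apply U.ι.isOpenEmbedding.injective
      rw [← Scheme.Hom.comp_apply, Scheme.homOfLE_ι]
      rfl
    · have := hOI x hx
      have h1 : X.homOfLE (inf_le_right : Ux x ⊓ U ≤ U) ≫ U.ι ≫ f =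
          X.homOfLE (inf_le_left : Ux x ⊓ U ≤ Ux x) ≫ (Ux x).ι ≫ f := by
        rw [Scheme.homOfLE_ι_assoc, Scheme.homOfLE_ι_assoc]
      rw [h1]
      infer_instance

end Groth.Agent.H53.Birat
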