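import Groth.Agent.H53.Birat.SpTop
import Groth.Agent.H53.Birat.Glue
import Groth.Agent.Lib.Helper54.GeomReducedBC2

set_option autoImplicit false
set_option backward.isDefEq.respectTransparency false
universe u
open CategoryTheory CategoryTheory.Limits AlgebraicGeometry AlgSp Topology
open Groth.Agent.Lib.Helper54 Groth.Agent.H53.GenFin

namespace Groth.Agent.H53.Birat

variable {S : Scheme.{u}}

/-- A scheme model of a birational morphism: open subschemes `X''` of `X` and `Y'` of `Y`
containing all generic points, with `f` restricting to a morphism of schemes `q`. -/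
theorem exists_scheme_model {X Y : Sp S} (hX : IsAlgSpace X) (hXd : IsDecent X)
    (hY : IsAlgSpace Y) (hYd : IsDecent Y)
    (hXf : (irreducibleComponents (Points X)).Finite)
    (hYf : (irreducibleComponents (Points Y)).Finite) (f : X ⟶ Y)
    (hf : W4stk3decentspacesp2.IsBirational f) :
    ∃ (X'' Y' : Over S) (j : (yon S).obj X'' ⟶ X) (b : (yon S).obj Y' ⟶ Y) (q : X'' ⟶ Y'),
      RepWith @IsOpenImmersion j ∧ RepWith @IsOpenImmersion b ∧ j ≫ f = (yon S).map q ≫ b ∧
      genericPoints (Points X) ⊆ Set.range (Points.ofPt j) ∧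
      genericPoints (Points Y) ⊆ Set.range (Points.ofPt b) ∧
      (∀ u : ↥X''.left, Points.ofPt j u ∈ genericPoints (Points X) →
        IsIso (q.left.stalkMap u)) := by
  have hM : (RepWith (S := S) @IsOpenImmersion).IsMultiplicative := repWith_isMultiplicative _
  obtain ⟨X', jX, hjX, hjXr, -⟩ := exists_schematic_open hX
  obtain ⟨Y', b, hb, hbr, -⟩ := exists_schematic_open hY
  obtain ⟨X'', p, q, sq, hp⟩ := exists_pullback_of_repWith (jX ≫ f) b hb
  have hp' : RepWith @IsOpenImmersion ((yon S).map p) := (repWith_yon_map_iff _ _).2 hp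
  have hj : RepWith @IsOpenImmersion ((yon S).map p ≫ jX) := hM.comp_mem _ _ hp' hjX
  have hcomm : ((yon S).map p ≫ jX) ≫ f = (yon S).map q ≫ b := by
    rw [Category.assoc]; exact sq.w
  have hgenX : ∀ ξ ∈ genericPoints (Points X), ξ ∈ ZarGlue.schematicLocus X := fun ξ hξ =>
    mem_of_dense_of_mem_genericPoints hXf _ (ZarGlue.isOpen_schematicLocus X)
      (dense_schematicLocus_of_isDecent hX hXd) ξ hξ
  have hgenY : ∀ η ∈ genericPoints (Points Y), η ∈ ZarGlue.schematicLocus Y := fun η hη =>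
    mem_of_dense_of_mem_genericPoints hYf _ (ZarGlue.isOpen_schematicLocus Y)
      (dense_schematicLocus_of_isDecent hY hYd) η hη
  refine ⟨X'', Y', (yon S).map p ≫ jX, b, q, hj, hb, hcomm, ?_, ?_, ?_⟩
  · intro ξ hξ
    obtain ⟨x', hx'⟩ : ξ ∈ Set.range (Points.ofPt jX) := hjXr ▸ hgenX ξ hξ
    obtain ⟨y', hy'⟩ : Points.map f ξ ∈ Set.range (Points.ofPt b) :=
      hbr ▸ hgenY _ (hf.bijOn.mapsTo hξ)
    obtain ⟨w, hw1, hw2⟩ := CodimQF.exists_point_of_isPullback_yon sq x' y'
      (by rw [← Points.map_ofPt, hx', hy'])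
    exact ⟨w, by rw [H53.ofPt_yon_map_comp, hw1, hx']⟩
  · intro η hη
    exact hbr ▸ hgenY η hη
  · intro u hx
    have hmj : Mono ((yon S).map p ≫ jX) := GenFin.mono_of_isOpenImmersion _ hj
    have hv : Points.ofPt b (q.left u) = Points.map f (Points.ofPt ((yon S).map p ≫ jX) u) := by
      rw [Points.map_ofPt, hcomm, H53.ofPt_yon_map_comp]
    obtain ⟨U, a, g, u₁, ha, hag, hau, hgu, hiso⟩ :=
      exists_stalkIso_chart f hf _ hx b hb (q.left u) hv
    obtain ⟨a₀, ha₀⟩ := H53.exists_factor_of_range_subset jX hjX a (by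
      rintro _ ⟨η, rfl⟩
      rw [← range_ofPt_eq, hjXr]
      exact ⟨U, a, ha, ⟨η, rfl⟩⟩)
    have hlift : (yon S).map ((yon S).preimage a₀) ≫ jX ≫ f = (yon S).map g ≫ b := by
      rw [Functor.map_preimage, ← Category.assoc, ha₀, hag]
    let k : U ⟶ X'' := (yon S).preimage (sq.lift _ _ hlift)
    have hk1 : (yon S).map k ≫ (yon S).map p = (yon S).map ((yon S).preimage a₀) := by
      rw [Functor.map_preimage]; exact sq.lift_fst _ _ _
    have hk2 : (yon S).map k ≫ (yon S).map q = (yon S).map g := by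
      rw [Functor.map_preimage]; exact sq.lift_snd _ _ _
    have hkq : k ≫ q = g := (yon S).map_injective (by rw [Functor.map_comp, hk2])
    have hka : (yon S).map k ≫ ((yon S).map p ≫ jX) = a := by
      rw [← Category.assoc, hk1, Functor.map_preimage, ha₀]
    have hkOI : IsOpenImmersion k.left := by
      have h1 : RepWith @IsOpenImmersion ((yon S).map k) :=
        H53.repWith_of_comp_mono @IsOpenImmersion _ ((yon S).map p ≫ jX) (hka ▸ ha)
      exact (repWith_yon_map_iff _ _).1 h1
    have hku : k.left u₁ = u := by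
      apply injective_ofPt_of_isOpenImmersion _ hj
      rw [← H53.ofPt_yon_map_comp, hka, hau]
    have h2 : IsIso ((k.left ≫ q.left).stalkMap u₁) := by
      have : k.left ≫ q.left = g.left := by rw [← Over.comp_left, hkq]
      rw [this]; exact hiso
    have h3 : IsIso (q.left.stalkMap (k.left u₁)) := isIso_stalkMap_of_comp k.left q.left u₁
    exact hku ▸ h3

/-- An integral open neighbourhood of a generic point of a reduced scheme with finitely many
generic points. -/
theorem exists_integral_nhd {Y : Scheme.{u}} [IsReduced Y] (GY : Set Y) (hfin : GY.Finite)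
    (hcov : ∀ y : Y, ∃ η ∈ GY, η ⤳ y) (v : Y) (hv : ∀ y' ∈ GY, y' ⤳ v → y' = v) :
    ∃ W : Y.Opens, v ∈ W ∧ IsIntegral W.toScheme ∧ ∀ y ∈ W, v ⤳ y := by
  have hclosed : IsClosed (⋃ y' ∈ GY \ {v}, closure ({y'} : Set Y)) :=
    (hfin.subset Set.sdiff_subset).isClosed_biUnion fun _ _ => isClosed_closure
  let W : Y.Opens := ⟨(⋃ y' ∈ GY \ {v}, closure ({y'} : Set Y))ᶜ, hclosed.isOpen_compl⟩
  have hvW : v ∈ W := by
    intro hmem
    obtain ⟨y', ⟨hy'G, hy'ne⟩, hy'⟩ := Set.mem_iUnion₂.1 hmem
    exact hy'ne (hv y' hy'G (specializes_iff_mem_closure.2 hy'))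
  have hspec : ∀ y ∈ W, v ⤳ y := by
    intro y hy
    obtain ⟨η, hη, hηy⟩ := hcov y
    by_cases hηv : η = v
    · exact hηv ▸ hηy
    · exact absurd (Set.mem_iUnion₂.2 ⟨η, ⟨hη, hηv⟩, specializes_iff_mem_closure.1 hηy⟩) hy
  refine ⟨W, hvW, ?_, hspec⟩
  have hirr : IsIrreducible (W : Set Y) :=
    ⟨⟨v, hvW⟩, (isIrreducible_singleton (x := v)).closure.isPreirreducible.open_subset W.2
      fun y hy => specializes_iff_mem_closure.1 (hspec y hy)⟩
  have : IrreducibleSpace W.toScheme := Subtype.irreducibleSpace hirr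
  have : IsReduced W.toScheme := isReduced_of_isOpenImmersion W.ι
  exact isIntegral_of_irreducibleSpace_of_isReduced W.toScheme

/-- Core of S10435: a birational morphism of decent spaces with finitely many components is an
open immersion on an open subscheme containing all generic points. -/
theorem exists_open_isOpenImmersion {X Y : Sp S} (hX : IsAlgSpace X) (hXd : IsDecent X)
    (hY : IsAlgSpace Y) (hYd : IsDecent Y)
    (hXf : (irreducibleComponents (Points X)).Finite)
    (hYf : (irreducibleComponents (Points Y)).Finite) (f : X ⟶ Y)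
    (hf : W4stk3decentspacesp2.IsBirational f)
    (h : (LocP @LocallyOfFiniteType f ∧ EtaleLocally (fun T => IsReduced T) Y) ∨
      LocP @LocallyOfFinitePresentation f) :
    ∃ (U : Over S) (a : (yon S).obj U ⟶ X), RepWith @IsOpenImmersion a ∧
      RepWith @IsOpenImmersion (a ≫ f) ∧
      genericPoints (Points X) ⊆ Set.range (Points.ofPt a) := by
  have hM : (RepWith (S := S) @IsOpenImmersion).IsMultiplicative := repWith_isMultiplicative _
  obtain ⟨X'', Y', j, b, q, hj, hb, hcomm, hgX, hgY, hst⟩ :=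
    exists_scheme_model hX hXd hY hYd hXf hYf f hf
  have hjoe := isOpenEmbedding_ofPt_of_isOpenImmersion hX j hj
  have hboe := isOpenEmbedding_ofPt_of_isOpenImmersion hY b hb
  have := t0Space_points_of_isDecent hX hXd
  have := t0Space_points_of_isDecent hY hYd
  have := quasiSober_points_of_isDecent hX hXd
  have := quasiSober_points_of_isDecent hY hYd
  have hfq : ∀ u : ↥X''.left, Points.map f (Points.ofPt j u) = Points.ofPt b (q.left u) := by
    intro u
    rw [Points.map_ofPt, hcomm, H53.ofPt_yon_map_comp]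
  let G : Set ↥X''.left := Points.ofPt j ⁻¹' genericPoints (Points X)
  let GY : Set ↥Y'.left := Points.ofPt b ⁻¹' genericPoints (Points Y)
  have hGfin : G.Finite := (finite_genericPoints hXf).preimage hjoe.injective.injOn
  have hGYfin : GY.Finite := (finite_genericPoints hYf).preimage hboe.injective.injOn
  have hcov : ∀ z : ↥X''.left, ∃ u ∈ G, u ⤳ z := by
    intro z
    obtain ⟨ξ, hξ, hs⟩ := exists_genericPoint_specializes (Points.ofPt j z)
    obtain ⟨u, rfl⟩ := hgX hξ
    exact ⟨u, hξ, hjoe.isInducing.specializes_iff.1 hs⟩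
  have hcovY : ∀ z : ↥Y'.left, ∃ u ∈ GY, u ⤳ z := by
    intro z
    obtain ⟨ξ, hξ, hs⟩ := exists_genericPoint_specializes (Points.ofPt b z)
    obtain ⟨u, rfl⟩ := hgY hξ
    exact ⟨u, hξ, hboe.isInducing.specializes_iff.1 hs⟩
  have hGgen : ∀ x ∈ G, ∀ x' ∈ G, x' ⤳ x → x' = x := fun x hx x' _ hs =>
    hjoe.injective (eq_of_specializes_of_mem_genericPoints
      (hs.map (Points.continuous_ofPt j)) hx)
  have hGYgen : ∀ x ∈ GY, ∀ x' : ↥Y'.left, x' ⤳ x → x' = x := fun x hx x' hs =>
    hboe.injective (eq_of_specializes_of_mem_genericPoints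
      (hs.map (Points.continuous_ofPt b)) hx)
  have hinj : Set.InjOn q.left G := by
    intro u hu u' hu' huu'
    apply hjoe.injective
    apply hf.bijOn.injOn hu hu'
    rw [hfq, hfq, huu']
  have hYmin : ∀ W : Y'.left.Opens, (W : Set ↥Y'.left).Nonempty →
      ∃ y ∈ W, ∀ y' : ↥Y'.left, y' ⤳ y → y' = y := by
    rintro W ⟨w, hw⟩
    obtain ⟨η, hη, hs⟩ := hcovY w
    exact ⟨η, hs.mem_open W.2 hw, hGYgen η hη⟩
  have hloc : ∀ x ∈ G, ∃ U : X''.left.Opens, x ∈ U ∧ IsOpenImmersion (U.ι ≫ q.left) := by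
    intro x hx
    have := hst x hx
    apply exists_opens_isOpenImmersion q.left x
    rcases h with ⟨hft, hred⟩ | hfp
    · right
      have hqft : LocallyOfFiniteType q.left :=
        hft j b q (repWith_etale_of_isOpenImmersion hj) (repWith_etale_of_isOpenImmersion hb) hcomm
      have : IsReduced Y'.left :=
        isReduced_chart_of_etaleLocally hred b (repWith_etale_of_isOpenImmersion hb)
      have hvGY : q.left x ∈ GY := by
        change Points.ofPt b (q.left x) ∈ genericPoints (Points Y)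
        rw [← hfq]
        exact hf.bijOn.mapsTo hx
      exact ⟨hqft, exists_integral_nhd GY hGYfin hcovY (q.left x)
        (fun y' _ hs => hGYgen _ hvGY y' hs)⟩
    · left
      exact hfp j b q (repWith_etale_of_isOpenImmersion hj) (repWith_etale_of_isOpenImmersion hb)
        hcomm
  obtain ⟨U, hGU, hUOI⟩ :=
    exists_opens_isOpenImmersion_of_finite q.left G hGfin hcov hGgen hinj hYmin hloc
  let US : Over S := Over.mk (U.ι ≫ X''.hom)
  let ι : US ⟶ X'' := Over.homMk U.ι rfl
  have hι : RepWith @IsOpenImmersion ((yon S).map ι) :=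
    (repWith_yon_map_iff _ _).2 (inferInstanceAs (IsOpenImmersion U.ι))
  refine ⟨US, (yon S).map ι ≫ j, hM.comp_mem _ _ hι hj, ?_, ?_⟩
  · have h1 : ((yon S).map ι ≫ j) ≫ f = (yon S).map (ι ≫ q) ≫ b := by
      rw [Category.assoc, hcomm, Functor.map_comp, Category.assoc]
    rw [h1]
    refine hM.comp_mem _ _ ((repWith_yon_map_iff _ _).2 ?_) hb
    exact hUOI
  · intro ξ hξ
    obtain ⟨u, rfl⟩ := hgX hξ
    exact ⟨⟨u, hGU hξ⟩, H53.ofPt_yon_map_comp ι j _⟩

/-- S10435. -/
theorem exists_dense_open_isIso {X Y : Sp S} (hX : IsAlgSpace X) (hXd : IsDecent X)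
    (hY : IsAlgSpace Y) (hYd : IsDecent Y)
    (hXf : (irreducibleComponents (Points X)).Finite)
    (hYf : (irreducibleComponents (Points Y)).Finite) (f : X ⟶ Y)
    (hf : W4stk3decentspacesp2.IsBirational f)
    (h : (LocP @LocallyOfFiniteType f ∧ EtaleLocally (fun T => IsReduced T) Y) ∨
      LocP @LocallyOfFinitePresentation f) :
    ∃ (U V : Over S) (a : (yon S).obj U ⟶ X) (b : (yon S).obj V ⟶ Y) (g : U ⟶ V),
      RepWith @IsOpenImmersion a ∧ RepWith @IsOpenImmersion b ∧
        Dense (Set.range (Points.ofPt a)) ∧ Dense (Set.range (Points.ofPt b)) ∧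
          a ≫ f = (yon S).map g ≫ b ∧ IsIso g.left := by
  obtain ⟨U, a, ha, haf, hgen⟩ := exists_open_isOpenImmersion hX hXd hY hYd hXf hYf f hf h
  have := quasiSober_points_of_isDecent hX hXd
  have := quasiSober_points_of_isDecent hY hYd
  refine ⟨U, U, a, a ≫ f, 𝟙 U, ha, haf, dense_of_genericPoints_subset _ hgen,
    dense_of_genericPoints_subset _ ?_, by rw [CategoryTheory.Functor.map_id, Category.id_comp], ?_⟩
  · intro η hη
    obtain ⟨ξ, hξ, rfl⟩ := hf.bijOn.surjOn hη
    obtain ⟨u, rfl⟩ := hgen hξ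
    exact ⟨u, rfl⟩
  · rw [Over.id_left]; infer_instance

end Groth.Agent.H53.Birat
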