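import Groth.Agent.H53.Birat.Local
import Groth.Agent.H53.GenFin2
import Groth.Agent.H53.SpBasic
import Groth.Agent.Lib.Helper54.QSepSchematic
import Groth.Agent.Lib.Helper54.GeomReducedSp

set_option autoImplicit false
set_option backward.isDefEq.respectTransparency false
universe u
open CategoryTheory CategoryTheory.Limits AlgebraicGeometry AlgSp
open Groth.Agent.Lib.Helper54 Groth.Agent.H53.GenFin

namespace Groth.Agent.H53.Birat

variable {S : Scheme.{u}}

theorem eq_of_specializes_of_mem_genericPoints {T : Type*} [TopologicalSpace T] [T0Space T]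
    {z y : T} (h : z ⤳ y) (hy : y ∈ genericPoints T) : z = y := by
  have h1 : closure ({y} : Set T) ≤ closure ({z} : Set T) :=
    closure_minimal (Set.singleton_subset_iff.2 (specializes_iff_mem_closure.1 h)) isClosed_closure
  have h2 : closure ({z} : Set T) ≤ closure ({y} : Set T) :=
    hy.le_of_ge isIrreducible_singleton.closure h1
  have h3 : y ⤳ z := specializes_iff_mem_closure.2 (h2 (subset_closure rfl))
  exact (h.antisymm h3).eq

theorem isIntegral_residueFieldMap_of_etale {U V : Scheme.{u}} (p : U ⟶ V) [Etale p] (u : U) :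
    (p.residueFieldMap u).hom.IsIntegral := by
  let : Algebra (V.residueField (p u)) (U.residueField u) := (p.residueFieldMap u).hom.toAlgebra
  have : Algebra.IsSeparable (V.residueField (p u)) (U.residueField u) := inferInstance
  intro z
  exact Algebra.IsSeparable.isIntegral _ z

theorem isIntegral_residueFieldMap_of_isIso_stalkMap {U V : Scheme.{u}} (g : U ⟶ V) (u : U)
    [IsIso (g.stalkMap u)] : (g.residueFieldMap u).hom.IsIntegral := by
  apply RingHom.isIntegral_of_surjective
  intro z
  obtain ⟨s, rfl⟩ := IsLocalRing.residue_surjective z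
  obtain ⟨t, rfl⟩ := (ConcreteCategory.bijective_of_isIso (g.stalkMap u)).2 s
  exact ⟨IsLocalRing.residue _ t, rfl⟩

theorem isIntegral_residueFieldMap_of_isOpenImmersion {U V : Scheme.{u}} (g : U ⟶ V)
    [IsOpenImmersion g] (u : U) : (g.residueFieldMap u).hom.IsIntegral := by
  apply RingHom.isIntegral_of_surjective
  exact (ConcreteCategory.bijective_of_isIso (g.residueFieldMap u)).2

/-- (D') For a birational morphism of decent spaces, every point over a generic point of the
target is a generic point of the source. -/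
theorem mem_genericPoints_of_map_mem {X Y : Sp S} (hX : IsAlgSpace X) (hXd : IsDecent X)
    (hY : IsAlgSpace Y) (hYd : IsDecent Y) (f : X ⟶ Y)
    (hf : W4stk3decentspacesp2.IsBirational f) (x' : Points X)
    (hy : Points.map f x' ∈ genericPoints (Points Y)) : x' ∈ genericPoints (Points X) := by
  have := t0Space_points_of_isDecent hY hYd
  obtain ⟨W, a₁, w', ha₁, rfl⟩ := Lib.Helper54.exists_chart_through hX x'
  obtain ⟨w, hww', hdim⟩ := Lib.Helper54.exists_dim_zero_generization W.left w'
  have hxgen : Points.ofPt a₁ w ∈ genericPoints (Points X) :=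
    (ringKrullDim_stalk_eq_zero_iff_of_isDecent hX hXd a₁ ha₁ w).1 hdim
  have hxx' : Points.ofPt a₁ w ⤳ Points.ofPt a₁ w' := hww'.map (Points.continuous_ofPt a₁)
  have hfx : Points.map f (Points.ofPt a₁ w) = Points.map f (Points.ofPt a₁ w') :=
    eq_of_specializes_of_mem_genericPoints (hxx'.map (Points.continuous_map f)) hy
  obtain ⟨U, V, a, b, g, u, ha, hb, hcomm, hau, hiso⟩ := hf.stalkIso _ hxgen
  -- `W₁ = W ×_X U`
  obtain ⟨W₁, p₁, p₂, sq1, hp₁⟩ := exists_pullback_of_repWith a₁ a ha
  have hp₂ : Etale p₂.left := ha₁.property _ _ _ sq1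
  obtain ⟨w₁, hw₁, hw₁u⟩ := CodimQF.exists_point_of_isPullback_yon sq1 w u hau.symm
  -- `W₂ = W ×_Y V`
  obtain ⟨W₂, q₁, h, sq2, hq₁⟩ := exists_pullback_of_repWith (a₁ ≫ f) b hb
  have hbv : Points.ofPt b (g.left u) = Points.map f (Points.ofPt a₁ w) := by
    rw [← hau, Points.map_ofPt, hcomm, H53.ofPt_yon_map_comp]
  obtain ⟨w₂, hw₂, hw₂v⟩ := CodimQF.exists_point_of_isPullback_yon sq2 w (g.left u)
    (by rw [← Points.map_ofPt, hbv])
  obtain ⟨w₂', hw₂', hw₂'v⟩ := CodimQF.exists_point_of_isPullback_yon sq2 w' (g.left u)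
    (by rw [← Points.map_ofPt, ← hfx, hbv])
  have hs2 : w₂ ⤳ w₂' := by
    rw [← (q₁.left.isOpenEmbedding.isInducing).specializes_iff, hw₂, hw₂']
    exact hww'
  have hv2 : h.left w₂ = h.left w₂' := by rw [hw₂v, hw₂'v]
  -- `W₃ = W₁ ×_W W₂`
  have hq₁' : RepWith @IsOpenImmersion ((yon S).map q₁) := (repWith_yon_map_iff _ _).2 hq₁
  obtain ⟨W₃, r₁, r₂, sq3, hr₁⟩ :=
    exists_pullback_of_repWith ((yon S).map p₁) ((yon S).map q₁) hq₁'
  have hp₁' : RepWith @IsOpenImmersion ((yon S).map p₁) := (repWith_yon_map_iff _ _).2 hp₁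
  have hr₂ : IsOpenImmersion r₂.left := hp₁'.property _ _ _ sq3
  obtain ⟨w₃, hw₃₁, hw₃₂⟩ := CodimQF.exists_point_of_isPullback_yon sq3 w₁ w₂
    (by rw [FibrePts.ofPt_yon_map, FibrePts.ofPt_yon_map, hw₁, hw₂])
  have hbm : Mono b := GenFin.mono_of_isOpenImmersion b hb
  have hmaps : r₁ ≫ p₂ ≫ g = r₂ ≫ h := by
    apply (yon S).map_injective
    rw [← cancel_mono b]
    simp only [Functor.map_comp, Category.assoc]
    rw [← hcomm, ← reassoc_of% sq1.w, reassoc_of% sq3.w, sq2.w]
  subst hw₃₁ hw₃₂ hw₁u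
  have hint1 : ((r₁ ≫ p₂ ≫ g).left.residueFieldMap w₃).hom.IsIntegral := by
    rw [Over.comp_left, Over.comp_left, Scheme.residueFieldMap_comp, Scheme.residueFieldMap_comp]
    simp only [CommRingCat.hom_comp]
    refine RingHom.IsIntegral.trans _ _ ?_ ?_
    · refine RingHom.IsIntegral.trans _ _ ?_ ?_
      · exact isIntegral_residueFieldMap_of_isIso_stalkMap g.left _
      · exact isIntegral_residueFieldMap_of_etale p₂.left _
    · exact isIntegral_residueFieldMap_of_isOpenImmersion r₁.left _
  have hint2 : ((r₂ ≫ h).left.residueFieldMap w₃).hom.IsIntegral := by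
    rw [← hmaps]; exact hint1
  have hint : (h.left.residueFieldMap (r₂.left w₃)).hom.IsIntegral := by
    rw [Over.comp_left, Scheme.residueFieldMap_comp, CommRingCat.hom_comp] at hint2
    exact RingHom.IsIntegral.tower_bot _ _ (RingHom.injective _) hint2
  have hw : r₂.left w₃ = w₂' :=
    eq_of_specializes_of_isIntegral_residueFieldMap h.left hs2 hv2 hint
  have hww : w = w' := by rw [← hw₂, ← hw₂', hw]
  rw [← hww]
  exact hxgen

end Groth.Agent.H53.Birat
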