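import Groth.Agent.H53.Birat.Dense
import Groth.Agent.H53.ProperSep
import Groth.Agent.H53.ResidualClosed

set_option autoImplicit false
set_option backward.isDefEq.respectTransparency false
universe u
open CategoryTheory CategoryTheory.Limits AlgebraicGeometry AlgSp Topology
open Groth.Agent.Lib.Helper54 Groth.Agent.H53.GenFin

namespace Groth.Agent.H53.Birat

variable {S : Scheme.{u}}

/-- If `f` restricts to an open immersion on the open subscheme `U` and `f⁻¹(f(U)) = U` on
points, then `f⁻¹(f(U)) ⟶ f(U)` is an isomorphism. -/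
theorem isIso_snd_of_preimage_subset {X Y : Sp S} {U : Over S} (a : (yon S).obj U ⟶ X)
    (ha : RepWith @IsOpenImmersion a) (f : X ⟶ Y) (haf : RepWith @IsOpenImmersion (a ≫ f))
    (hpre : ∀ x : Points X, Points.map f x ∈ Set.range (Points.ofPt (a ≫ f)) →
      x ∈ Set.range (Points.ofPt a))
    {P : Sp S} (fst : P ⟶ X) (snd : P ⟶ (yon S).obj U) (hP : IsPullback fst snd f (a ≫ f)) :
    IsIso snd := by
  have hfst : RepWith @IsOpenImmersion fst := MorphismProperty.of_isPullback hP.flip haf
  have hmf : Mono fst := GenFin.mono_of_isOpenImmersion fst hfst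
  have hma : Mono a := GenFin.mono_of_isOpenImmersion a ha
  let s : (yon S).obj U ⟶ P := hP.lift a (𝟙 _) (by rw [Category.id_comp])
  have hs1 : s ≫ fst = a := hP.lift_fst _ _ _
  have hs2 : s ≫ snd = 𝟙 _ := hP.lift_snd _ _ _
  have hrange : Set.range (Points.map fst) ⊆ Set.range (Points.map a) := by
    rintro _ ⟨z, rfl⟩
    rw [← range_ofPt_eq]
    apply hpre
    rw [range_ofPt_eq]
    refine ⟨Points.map snd z, ?_⟩
    rw [← Points.map_comp, ← Points.map_comp, hP.w]
  obtain ⟨g, hg⟩ := H53.exists_factor_of_range_subset a ha fst hrange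
  have hgs : g ≫ s = 𝟙 P := by
    rw [← cancel_mono fst, Category.assoc, hs1, hg, Category.id_comp]
  have hsnd : snd = g := by
    calc snd = (g ≫ s) ≫ snd := by rw [hgs, Category.id_comp]
      _ = g := by rw [Category.assoc, hs2, Category.comp_id]
  exact ⟨s, by rw [hsnd, hgs], hs2⟩

theorem isOpenEmbedding_points_of_isOpenImmersion {F X : Sp S} (hX : IsAlgSpace X) (j : F ⟶ X)
    (hj : RepWith @IsOpenImmersion j) : IsOpenEmbedding (Points.map j) := by
  have himm : RepWith @IsImmersion j :=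
    Groth.Agent.H53.repWith_of_le (fun A B φ hφ => by
      have : IsOpenImmersion φ := hφ
      infer_instance) hj
  exact ⟨(Groth.Agent.H53.isEmbedding_points_of_repWith_isImmersion hX j himm).1,
    ZarGlue.isOpen_range_points_map_of_isOpenImmersion j hj⟩

/-- In the separated case, `f⁻¹(f(U)) = U`. -/
theorem preimage_subset_of_separated {X Y : Sp S} (hX : IsAlgSpace X) (hXd : IsDecent X)
    (hY : IsAlgSpace Y) {U : Over S} (a : (yon S).obj U ⟶ X) (f : X ⟶ Y)
    (haf : RepWith @IsOpenImmersion (a ≫ f)) (hsep : IsSeparatedMor f)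
    (hgen : genericPoints (Points X) ⊆ Set.range (Points.ofPt a)) :
    ∀ x : Points X, Points.map f x ∈ Set.range (Points.ofPt (a ≫ f)) →
      x ∈ Set.range (Points.ofPt a) := by
  have := quasiSober_points_of_isDecent hX hXd
  have sq₀ := IsPullback.of_hasPullback (a ≫ f) f
  let Γ : (yon S).obj U ⟶ pullback (a ≫ f) f := pullback.lift (𝟙 _) a (by simp)
  have hΓ2 : Γ ≫ pullback.snd (a ≫ f) f = a := pullback.lift_snd _ _ _
  have hΓc : RepWith @IsClosedImmersion Γ := repWith_isClosedImmersion_graph a f hsep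
  have hP₀ : IsAlgSpace (pullback (a ≫ f) f) :=
    H52.isAlgSpace_of_isPullback sq₀ (IsAlgSpace.yon_obj U) hY hX
  have hC : IsClosed (Set.range (Points.map Γ)) :=
    ResidualClosed.isClosed_range_of_repWith_isClosedImmersion hP₀ Γ hΓc
  have hπ₂ : RepWith @IsOpenImmersion (pullback.snd (a ≫ f) f) :=
    MorphismProperty.of_isPullback sq₀ haf
  have hoe := isOpenEmbedding_points_of_isOpenImmersion hX _ hπ₂
  have hsurj : ∀ z, z ∈ Set.range (Points.map Γ) := by
    intro z
    by_contra hz
    obtain ⟨ξ, hξgen, hs⟩ := exists_genericPoint_specializes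
      (Points.map (pullback.snd (a ≫ f) f) z)
    have hO : IsOpen (Points.map (pullback.snd (a ≫ f) f) '' (Set.range (Points.map Γ))ᶜ) :=
      hoe.isOpenMap _ hC.isOpen_compl
    obtain ⟨z', hz', hz'ξ⟩ := hs.mem_open hO ⟨z, hz, rfl⟩
    obtain ⟨u, hu⟩ := hgen hξgen
    apply hz'
    refine ⟨Points.ofScheme U u, hoe.injective ?_⟩
    rw [hz'ξ, ← hu, ← Points.map_comp, hΓ2, Points.ofPt_eq_map_ofScheme]
  intro x hx
  obtain ⟨u, hu⟩ := hx
  obtain ⟨z, -, hz2⟩ := H52.exists_point_of_isPullback sq₀ (Points.ofScheme U u) x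
    (by rw [← Points.ofPt_eq_map_ofScheme, hu])
  obtain ⟨ζ, rfl⟩ := hsurj z
  rw [range_ofPt_eq]
  exact ⟨ζ, by rw [← hz2, ← Points.map_comp, hΓ2]⟩

end Groth.Agent.H53.Birat
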