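import Mathlib

set_option autoImplicit false
set_option backward.isDefEq.respectTransparency false
universe u
open CategoryTheory AlgebraicGeometry Topology

namespace Groth.Agent.H53.Birat

/-- A minimal point in the closure of the image of a closed set under `Spec A ⟶ Spec B` lies in
the image. -/
theorem mem_image_comap_of_mem_closure {A B : Type u} [CommRing A] [CommRing B] (φ : B →+* A)
    (Z : Set (PrimeSpectrum A)) (hZ : IsClosed Z) (w : PrimeSpectrum B)
    (hw : ∀ w' : PrimeSpectrum B, w' ⤳ w → w' = w)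
    (hcl : w ∈ closure (PrimeSpectrum.comap φ '' Z)) : w ∈ PrimeSpectrum.comap φ '' Z := by
  obtain ⟨I, rfl⟩ := (PrimeSpectrum.isClosed_iff_zeroLocus_ideal Z).1 hZ
  rw [PrimeSpectrum.closure_image_comap_zeroLocus] at hcl
  have hle : I.comap φ ≤ w.asIdeal := hcl
  have hmin : w.asIdeal ∈ (I.comap φ).minimalPrimes := by
    refine ⟨⟨w.2, hle⟩, fun q hq hqw => ?_⟩
    have : (⟨q, hq.1⟩ : PrimeSpectrum B) = w :=
      hw _ ((PrimeSpectrum.le_iff_specializes _ _).1 hqw)
    rw [← this]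
  obtain ⟨p', hp', hIp', hpw⟩ := Ideal.exists_comap_eq_of_mem_minimalPrimes φ _ hmin
  exact ⟨⟨p', hp'⟩, hIp', PrimeSpectrum.ext hpw⟩

/-- Scheme version: `T` quasi-compact, `W` affine. -/
theorem mem_image_of_mem_closure_of_minimal {T W : Scheme.{u}} [CompactSpace T] [IsAffine W]
    (t : T ⟶ W) (Z : Set T) (hZ : IsClosed Z) (w : W) (hw : ∀ w' : W, w' ⤳ w → w' = w)
    (hcl : w ∈ closure (t '' Z)) : w ∈ t '' Z := by
  obtain ⟨R, g, hg⟩ := compactSpace_iff_exists.mp (inferInstance : CompactSpace T)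
  -- replace `T` by `Spec R` and `W` by `Spec Γ(W, ⊤)`
  let e := W.isoSpec
  obtain ⟨φ, hφ⟩ := Spec.homEquiv.symm.surjective (g ≫ t ≫ e.hom)
  have hcomp : ∀ x, e.hom (t (g x)) = PrimeSpectrum.comap φ.hom x := by
    intro x
    have := congr($hφ x)
    exact this.symm
  have hZ' : IsClosed (g ⁻¹' Z) := hZ.preimage g.continuous
  have himage : e.hom '' (t '' Z) = PrimeSpectrum.comap φ.hom '' (g ⁻¹' Z) := by
    ext y
    constructor
    · rintro ⟨_, ⟨z, hz, rfl⟩, rfl⟩
      obtain ⟨x, rfl⟩ := hg z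
      exact ⟨x, hz, (hcomp x).symm⟩
    · rintro ⟨x, hx, rfl⟩
      exact ⟨t (g x), ⟨g x, hx, rfl⟩, hcomp x⟩
  have hhomeo := e.hom.homeomorph
  have hw' : ∀ w' : PrimeSpectrum Γ(W, ⊤), w' ⤳ e.hom w → w' = e.hom w := by
    intro w' hs
    have h1 : e.inv w' ⤳ w := by
      have := hs.map e.inv.continuous
      rwa [← Scheme.Hom.comp_apply, Iso.hom_inv_id] at this
    have := hw _ h1
    rw [← this, ← Scheme.Hom.comp_apply, Iso.inv_hom_id]
    rfl
  have hcl' : e.hom w ∈ closure (PrimeSpectrum.comap φ.hom '' (g ⁻¹' Z)) := by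
    rw [← himage]
    exact image_closure_subset_closure_image e.hom.continuous ⟨w, hcl, rfl⟩
  obtain ⟨x, hx, hxw⟩ := mem_image_comap_of_mem_closure φ.hom _ hZ' _ hw' hcl'
  refine ⟨g x, hx, ?_⟩
  apply e.hom.homeomorph.injective
  change e.hom (t (g x)) = e.hom w
  rw [hcomp, hxw]

end Groth.Agent.H53.Birat
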