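import Groth.Agent.H53.Birat.Iso
import Groth.Agent.H53.Birat.QcAlg
import Groth.Agent.H52.QC
import Groth.Agent.H53.SpTop
import Groth.Agent.Lib.Helper54.DecentPts

set_option autoImplicit false
set_option backward.isDefEq.respectTransparency false
universe u
open CategoryTheory CategoryTheory.Limits AlgebraicGeometry AlgSp Topology
open Groth.Agent.Lib.Helper54 Groth.Agent.H53.GenFin

namespace Groth.Agent.H53.Birat

variable {S : Scheme.{u}}

/-- For a quasi-compact morphism to a decent space, a generic point of the target in the closure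
of the image of a closed set lies in the image. -/
theorem mem_image_of_mem_closure_of_quasiCompact {X Y : Sp S} (hY : IsAlgSpace Y)
    (hYd : IsDecent Y) (f : X ⟶ Y) (hqc : IsQuasiCompactMor f) (Z : Set (Points X))
    (hZ : IsClosed Z) (η : Points Y) (hη : η ∈ genericPoints (Points Y))
    (hcl : η ∈ closure (Points.map f '' Z)) : η ∈ Points.map f '' Z := by
  have := t0Space_points_of_isDecent hY hYd
  obtain ⟨W, c, w, hW, hc, rfl⟩ := exists_affine_chart_through hY η
  have hwmin : ∀ w' : ↥W.left, w' ⤳ w → w' = w := by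
    intro w' hs
    have h1 : Points.ofPt c w' = Points.ofPt c w :=
      eq_of_specializes_of_mem_genericPoints (hs.map (Points.continuous_ofPt c)) hη
    exact (eq_of_specializes_of_ofPt_eq hY hYd c hc w w' h1.symm hs).symm
  have sq := IsPullback.of_hasPullback f c
  have hWqc : IsQuasiCompactSp ((yon S).obj W) := H52.isQuasiCompactSp_yon W
  obtain ⟨T, p, hpe, hps, hT⟩ := hqc (IsAlgSpace.yon_obj W) hWqc c _ _ sq
  have : CompactSpace ↥T.left := hT
  let t : T ⟶ W := (yon S).preimage (p ≫ pullback.snd f c)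
  have ht : (yon S).map t = p ≫ pullback.snd f c := Functor.map_preimage _ _
  let ZT : Set ↥T.left := Points.ofPt (p ≫ pullback.fst f c) ⁻¹' Z
  have hZT : IsClosed ZT := hZ.preimage (Points.continuous_ofPt _)
  have hct : ∀ τ : ↥T.left, Points.ofPt c (t.left τ) =
      Points.map f (Points.ofPt (p ≫ pullback.fst f c) τ) := by
    intro τ
    rw [← H53.ofPt_yon_map_comp, ht, Points.map_ofPt, Category.assoc, Category.assoc, sq.w]
  have himage : Points.ofPt c ⁻¹' (Points.map f '' Z) = t.left '' ZT := by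
    ext w₁
    constructor
    · rintro ⟨z, hz, hzw⟩
      obtain ⟨ζ, hζ1, hζ2⟩ := H52.exists_point_of_isPullback sq z (Points.ofScheme W w₁)
        (by rw [hzw, ← Points.ofPt_eq_map_ofScheme])
      obtain ⟨τ, rfl⟩ := surjective_ofPt_of_surjective p hps ζ
      refine ⟨τ, ?_, ?_⟩
      · change Points.ofPt (p ≫ pullback.fst f c) τ ∈ Z
        rw [← Points.map_ofPt, hζ1]; exact hz
      · apply (Points.schemeEquiv W).injective
        have h1 : Points.map (pullback.snd f c) (Points.ofPt p τ) =
            Points.ofPt ((yon S).map t) τ := by rw [Points.map_ofPt, ht]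
        rw [h1] at hζ2
        change Points.ofScheme W (t.left τ) = Points.ofScheme W w₁
        rw [← hζ2]
        exact (FibrePts.ofPt_yon_map t τ).symm
    · rintro ⟨τ, hτ, rfl⟩
      exact ⟨_, hτ, (hct τ).symm⟩
  have hopen : IsOpenMap (Points.ofPt c) := H53.isOpenMap_ofPt_of_etale c hc
  have hcl' : w ∈ closure (t.left '' ZT) := by
    rw [← himage]
    exact hopen.preimage_closure_subset_closure_preimage hcl
  obtain ⟨τ, hτ, hτw⟩ := mem_image_of_mem_closure_of_minimal t.left ZT hZT w hwmin hcl'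
  exact ⟨_, hτ, by rw [← hct, hτw]⟩

/-- S10436. -/
theorem exists_dense_open_isIso_pullback {X Y : Sp S} (hX : IsAlgSpace X) (hXd : IsDecent X)
    (hY : IsAlgSpace Y) (hYd : IsDecent Y)
    (hXf : (irreducibleComponents (Points X)).Finite)
    (hYf : (irreducibleComponents (Points Y)).Finite) (f : X ⟶ Y)
    (hf : W4stk3decentspacesp2.IsBirational f)
    (h₁ : IsQuasiCompactMor f ∨ IsSeparatedMor f)
    (h₂ : (LocP @LocallyOfFiniteType f ∧ EtaleLocally (fun T => IsReduced T) Y) ∨
      LocP @LocallyOfFinitePresentation f) :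
    ∃ (V : Over S) (b : (yon S).obj V ⟶ Y), RepWith @IsOpenImmersion b ∧
      Dense (Set.range (Points.ofPt b)) ∧
        ∀ ⦃P : Sp S⦄ (fst : P ⟶ X) (snd : P ⟶ (yon S).obj V),
          IsPullback fst snd f b → IsIso snd := by
  have hM : (RepWith (S := S) @IsOpenImmersion).IsMultiplicative := repWith_isMultiplicative _
  obtain ⟨U, a, ha, haf, hgen⟩ := exists_open_isOpenImmersion hX hXd hY hYd hXf hYf f hf h₂
  have := quasiSober_points_of_isDecent hY hYd
  rcases h₁ with hqc | hsep
  · have hjoe := isOpenEmbedding_ofPt_of_isOpenImmersion hX a ha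
    let Z : Set (Points X) := (Set.range (Points.ofPt a))ᶜ
    have hZ : IsClosed Z := hjoe.isOpen_range.isClosed_compl
    let C : Set (Points Y) := closure (Points.map f '' Z)
    let O : U.left.Opens := ⟨Points.ofPt (a ≫ f) ⁻¹' Cᶜ,
      isClosed_closure.isOpen_compl.preimage (Points.continuous_ofPt _)⟩
    let U₁ : Over S := Over.mk (O.ι ≫ U.hom)
    let ι : U₁ ⟶ U := Over.homMk O.ι rfl
    have hι : RepWith @IsOpenImmersion ((yon S).map ι) :=
      (repWith_yon_map_iff _ _).2 (inferInstanceAs (IsOpenImmersion O.ι))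
    have ha₁ : RepWith @IsOpenImmersion ((yon S).map ι ≫ a) := hM.comp_mem _ _ hι ha
    have haf₁ : RepWith @IsOpenImmersion (((yon S).map ι ≫ a) ≫ f) := by
      rw [Category.assoc]; exact hM.comp_mem _ _ hι haf
    have hgenY : ∀ η ∈ genericPoints (Points Y), η ∉ C := by
      intro η hη hηC
      obtain ⟨z, hz, rfl⟩ := mem_image_of_mem_closure_of_quasiCompact hY hYd f hqc Z hZ η hη hηC
      exact hz (hgen (mem_genericPoints_of_map_mem hX hXd hY hYd f hf z hη))
    have hpt : ∀ u₁ : ↥U₁.left, Points.ofPt (((yon S).map ι ≫ a) ≫ f) u₁ =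
        Points.ofPt (a ≫ f) (ι.left u₁) := by
      intro u₁
      rw [Category.assoc, H53.ofPt_yon_map_comp]
    refine ⟨U₁, ((yon S).map ι ≫ a) ≫ f, haf₁, dense_of_genericPoints_subset _ ?_, ?_⟩
    · intro η hη
      obtain ⟨ξ, hξ, rfl⟩ := hf.bijOn.surjOn hη
      obtain ⟨u, rfl⟩ := hgen hξ
      have huO : u ∈ O := by
        change Points.ofPt (a ≫ f) u ∉ C
        rw [← Points.map_ofPt]; exact hgenY _ hη
      exact ⟨⟨u, huO⟩, by rw [hpt]; rfl⟩
    · intro P fst snd hP
      refine isIso_snd_of_preimage_subset _ ha₁ f haf₁ ?_ fst snd hP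
      rintro x ⟨u₁, hu₁⟩
      rw [hpt] at hu₁
      have hmem : ι.left u₁ ∈ O := u₁.2
      have hfx : Points.map f x ∉ C := hu₁ ▸ hmem
      have hxZ : x ∉ Z := fun hx => hfx (subset_closure ⟨x, hx, rfl⟩)
      obtain ⟨u, rfl⟩ := not_not.1 hxZ
      have huO : u ∈ O := by
        change Points.ofPt (a ≫ f) u ∉ C
        rw [← Points.map_ofPt]; exact hfx
      exact ⟨⟨u, huO⟩, by rw [H53.ofPt_yon_map_comp]; rfl⟩
  · refine ⟨U, a ≫ f, haf, dense_of_genericPoints_subset _ ?_, ?_⟩
    · intro η hη
      obtain ⟨ξ, hξ, rfl⟩ := hf.bijOn.surjOn hη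
      obtain ⟨u, rfl⟩ := hgen hξ
      exact ⟨u, rfl⟩
    · intro P fst snd hP
      exact isIso_snd_of_preimage_subset a ha f haf
        (preimage_subset_of_separated hX hXd hY a f haf hsep hgen) fst snd hP

end Groth.Agent.H53.Birat
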