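import Groth.Agent.H53.Birat.Local
import Groth.Agent.H53.GenFin

set_option autoImplicit false
set_option backward.isDefEq.respectTransparency false
universe u
open CategoryTheory CategoryTheory.Limits AlgebraicGeometry TopologicalSpace

namespace Groth.Agent.H53.Birat

theorem isUnit_of_basicOpen_eq_top {Z : Scheme.{u}} (f : Γ(Z, ⊤)) (h : Z.basicOpen f = ⊤) :
    IsUnit f := by
  apply Z.toRingedSpace.isUnit_of_isUnit_germ ⊤ f
  intro z hz
  have hz' : z ∈ Z.basicOpen f := by rw [h]; trivial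
  exact (Z.mem_basicOpen _ z hz).1 hz'

/-- A morphism from an affine scheme to `U` with constant image `u` factors through
`Spec 𝒪_{U,u}`. -/
theorem exists_lift_fromSpecStalk {Z U : Scheme.{u}} [IsAffine Z] (p : Z ⟶ U) (u : U)
    (hp : ∀ z, p z = u) :
    ∃ p' : Z ⟶ Spec (U.presheaf.stalk u), p' ≫ U.fromSpecStalk u = p := by
  obtain ⟨W, hW, huW⟩ := GenFin.exists_affineOpen_mem U u
  have hle : (⊤ : Z.Opens) ≤ p ⁻¹ᵁ W := fun z _ => by
    change p z ∈ W
    rw [hp z]; exact huW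
  let α : Γ(U, W) ⟶ Γ(Z, ⊤) := p.appLE W ⊤ hle
  have h1 : Spec.map α ≫ hW.fromSpec = (isAffineOpen_top Z).fromSpec ≫ p :=
    IsAffineOpen.SpecMap_appLE_fromSpec p hW (isAffineOpen_top Z) hle
  let := U.presheaf.algebra_section_stalk ⟨u, huW⟩
  have hloc := hW.isLocalization_stalk ⟨u, huW⟩
  have hunits : ∀ s : (hW.primeIdealOf ⟨u, huW⟩).asIdeal.primeCompl, IsUnit (α.hom s) := by
    intro s
    apply isUnit_of_basicOpen_eq_top
    have hs : IsUnit (U.presheaf.germ W u huW (s : Γ(U, W))) :=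
      IsLocalization.map_units (U.presheaf.stalk u) s
    have hu : u ∈ U.basicOpen (s : Γ(U, W)) := (U.mem_basicOpen _ u huW).2 hs
    rw [eq_top_iff]
    intro z _
    change z ∈ Z.basicOpen (p.appLE W ⊤ hle s)
    rw [Scheme.basicOpen_appLE]
    refine ⟨trivial, ?_⟩
    change p z ∈ U.basicOpen (s : Γ(U, W))
    rw [hp z]; exact hu
  let α' : U.presheaf.stalk u →+* Γ(Z, ⊤) := IsLocalization.lift hunits
  have hα' : U.presheaf.germ W u huW ≫ CommRingCat.ofHom α' = α := by
    ext s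
    exact IsLocalization.lift_eq hunits s
  refine ⟨Z.isoSpec.hom ≫ Spec.map (CommRingCat.ofHom α'), ?_⟩
  rw [← hW.fromSpecStalk_eq_fromSpecStalk huW, IsAffineOpen.fromSpecStalk, Category.assoc,
    ← Spec.map_comp_assoc, hα', h1, IsAffineOpen.fromSpec_top, Iso.hom_inv_id_assoc]

/-- If `g` induces an isomorphism of local rings at `u`, a morphism to `U` with constant image `u`
is determined by its composite with `g`. -/
theorem eq_comp_section {Z U V : Scheme.{u}} [IsAffine Z] (g : U ⟶ V) (u : U)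
    [IsIso (g.stalkMap u)] (p : Z ⟶ U) (q : Z ⟶ Spec (V.presheaf.stalk (g u)))
    (hp : ∀ z, p z = u) (hpq : p ≫ g = q ≫ V.fromSpecStalk (g u)) :
    p = q ≫ Spec.map (inv (g.stalkMap u)) ≫ U.fromSpecStalk u := by
  obtain ⟨p', rfl⟩ := exists_lift_fromSpecStalk p u hp
  have h1 : p' ≫ Spec.map (g.stalkMap u) = q := by
    rw [← cancel_mono (V.fromSpecStalk (g u)), Category.assoc,
      Scheme.SpecMap_stalkMap_fromSpecStalk, ← hpq, Category.assoc]
  rw [← h1, Category.assoc, ← Spec.map_comp_assoc, IsIso.inv_hom_id, Spec.map_id,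
    Category.id_comp]

theorem isIso_stalkMap_of_comp_eq {A B C D : Scheme.{u}} (r : A ⟶ B) (g₀ : B ⟶ D) (s : A ⟶ C)
    (p : C ⟶ D) (h : r ≫ g₀ = s ≫ p) (a : A) [IsIso (r.stalkMap a)]
    [IsIso (g₀.stalkMap (r a))] [IsIso (p.stalkMap (s a))] : IsIso (s.stalkMap a) := by
  have key : ∀ t : A ⟶ D, t = r ≫ g₀ → IsIso (t.stalkMap a) := by
    rintro _ rfl
    rw [Scheme.Hom.stalkMap_comp]
    infer_instance
  have h1 : IsIso ((s ≫ p).stalkMap a) := key _ h.symm
  rw [Scheme.Hom.stalkMap_comp] at h1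
  exact IsIso.of_isIso_comp_left (p.stalkMap (s a)) (s.stalkMap a)

end Groth.Agent.H53.Birat
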