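import Mathlib
import Groth.Prelude

set_option autoImplicit false
set_option backward.isDefEq.respectTransparency false
universe u
open CategoryTheory CategoryTheory.Limits AlgebraicGeometry IsLocalRing Polynomial

namespace Groth.Agent.H53.Birat

/-- If `B → R → R'` is a local homomorphism of local rings inducing an algebraic extension of residue
fields, then `R → R'` is local. -/
theorem isLocalHom_of_isIntegral_residue {B R R' : Type u} [CommRing B] [CommRing R] [CommRing R']
    [IsLocalRing B] [IsLocalRing R] [IsLocalRing R'] (τ : B →+* R') [IsLocalHom τ]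
    (ψ : B →+* R) (σ : R →+* R') (hcomp : σ.comp ψ = τ)
    (hint : (ResidueField.map τ).IsIntegral) : IsLocalHom σ := by
  refine ⟨fun r hr => ?_⟩
  by_contra hru
  let ρ := ResidueField.map τ
  let c : ResidueField R' := residue R' (σ r)
  have hc0 : c ≠ 0 := by
    intro h0
    exact ((residue_eq_zero_iff _).1 h0) hr
  let : Algebra (ResidueField B) (ResidueField R') := ρ.toAlgebra
  have hci : IsIntegral (ResidueField B) c := hint c
  let P := minpoly (ResidueField B) c
  have hP0 : P.coeff 0 ≠ 0 := minpoly.coeff_zero_ne_zero hci hc0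
  obtain ⟨Q, hQ⟩ := Polynomial.map_surjective (residue B) residue_surjective P
  let z : R := eval₂ ψ r Q
  have hσz : σ z = eval₂ τ (σ r) Q := by
    rw [← hcomp]
    exact Polynomial.hom_eval₂ Q ψ σ r
  have hres : residue R' (σ z) = 0 := by
    rw [hσz, Polynomial.hom_eval₂]
    have h1 : (residue R').comp τ = ρ.comp (residue B) := by
      ext b
      rfl
    rw [h1, ← Polynomial.eval₂_map, hQ]
    exact minpoly.aeval (ResidueField B) c
  have hσz_nu : ¬ IsUnit (σ z) := (residue_eq_zero_iff _).1 hres
  have hz_nu : ¬ IsUnit z := fun h => hσz_nu (h.map σ)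
  have hz_split : z = eval₂ ψ r Q.divX * r + ψ (Q.coeff 0) := by
    conv_lhs => rw [show z = eval₂ ψ r Q from rfl, ← Polynomial.divX_mul_X_add Q]
    simp [eval₂_add, eval₂_mul]
  have hψ0 : ψ (Q.coeff 0) ∈ maximalIdeal R := by
    have h1 : ψ (Q.coeff 0) = z - eval₂ ψ r Q.divX * r := by rw [hz_split]; ring
    rw [h1]
    exact sub_mem hz_nu (Ideal.mul_mem_left _ _ hru)
  have hQ0 : ¬ IsUnit (Q.coeff 0) := fun h => hψ0 (h.map ψ)
  have : P.coeff 0 = 0 := by
    rw [← hQ, Polynomial.coeff_map]
    exact (residue_eq_zero_iff _).2 hQ0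
  exact hP0 this

/-- In a scheme over `V`, a specialization `w ⤳ w'` inside a fibre, with `κ(w)` algebraic over the
residue field of the image, is trivial. -/
theorem eq_of_specializes_of_isIntegral_residueFieldMap {W V : Scheme.{u}} (h : W ⟶ V) {w w' : W}
    (hs : w ⤳ w') (hv : h w = h w') (hint : (h.residueFieldMap w).hom.IsIntegral) : w = w' := by
  let σ := W.presheaf.stalkSpecializes hs
  let ε := V.presheaf.stalkCongr (Inseparable.of_eq hv)
  -- ε : V.stalk (h w) ≅ V.stalk (h w')
  let ψ := ε.hom ≫ h.stalkMap w'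
  have hcomp : ψ ≫ σ = h.stalkMap w := by
    have h1 := h.stalkSpecializes_stalkMap w w' hs
    have h2 : V.presheaf.stalkSpecializes (h.base.hom.map_specializes hs) = ε.inv := rfl
    rw [h2] at h1
    rw [Category.assoc, ← h1, Iso.hom_inv_id_assoc]
  have hloc : IsLocalHom σ.hom :=
    isLocalHom_of_isIntegral_residue (h.stalkMap w).hom ψ.hom σ.hom
      (by rw [← CommRingCat.hom_comp, hcomp]) hint
  have h3 := Scheme.SpecMap_stalkSpecializes_fromSpecStalk hs
  have h4 : (Spec.map σ ≫ W.fromSpecStalk w') (closedPoint _) = (W.fromSpecStalk w) (closedPoint _) := by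
    rw [h3]
  rw [Scheme.Hom.comp_apply, Scheme.fromSpecStalk_closedPoint] at h4
  have h5 : Spec.map σ (closedPoint (W.presheaf.stalk w)) = closedPoint (W.presheaf.stalk w') :=
    IsLocalRing.comap_closedPoint σ.hom
  rw [h5, Scheme.fromSpecStalk_closedPoint] at h4
  exact h4.symm

end Groth.Agent.H53.Birat
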