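import Groth.Agent.H53.Birat.Alg

set_option autoImplicit false
set_option backward.isDefEq.respectTransparency false
universe u
open CategoryTheory AlgebraicGeometry TopologicalSpace

namespace Groth.Agent.H53.Birat

theorem bijective_localRingHom_of_eq {R S : Type u} [CommRing R] [CommRing S] (φ : R →+* S)
    (q : Ideal S) [q.IsPrime] (I : Ideal R) [I.IsPrime] (hI : I = q.comap φ)
    (h : Function.Bijective (Localization.localRingHom I q φ hI)) :
    Function.Bijective (Localization.localRingHom (q.comap φ) q φ rfl) := by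
  subst hI
  exact h

/-- Affine version of the local lemma. -/
theorem exists_isOpenImmersion_of_affineOpens {X Y : Scheme.{u}} (f : X ⟶ Y) (x : X)
    [IsIso (f.stalkMap x)] {U₀ : Y.Opens} (hU : IsAffineOpen U₀) {V₀ : X.Opens}
    (hV : IsAffineOpen V₀) (hle : V₀ ≤ f ⁻¹ᵁ U₀) (hx : x ∈ V₀)
    (hft : RingHom.FiniteType (f.appLE U₀ V₀ hle).hom)
    (h : RingHom.FinitePresentation (f.appLE U₀ V₀ hle).hom ∨
      (IsDomain Γ(Y, U₀) ∧ (hU.primeIdealOf ⟨f x, hle hx⟩).asIdeal = ⊥)) :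
    ∃ (U : Scheme.{u}) (j : U ⟶ X), IsOpenImmersion j ∧ x ∈ Set.range j ∧
      IsOpenImmersion (j ≫ f) := by
  let φ := (f.appLE U₀ V₀ hle).hom
  let _ : Algebra Γ(Y, U₀) Γ(X, V₀) := φ.toAlgebra
  let q : Ideal Γ(X, V₀) := (hV.primeIdealOf ⟨x, hx⟩).asIdeal
  have hcomap : (hU.primeIdealOf ⟨f x, hle hx⟩).asIdeal = q.comap φ :=
    congr($(IsAffineOpen.comap_primeIdealOf_appLE U₀ hU V₀ hV hle hx).1).symm
  have hbij : Function.Bijective (Localization.localRingHom (q.comap φ) q φ rfl) := by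
    refine bijective_localRingHom_of_eq φ q _ hcomap ?_
    have e := IsAffineOpen.arrowStalkMapIso f U₀ hU V₀ hV hle hx
    have hiso : IsIso (CommRingCat.ofHom (Localization.localRingHom _ _ φ hcomap)) :=
      ((MorphismProperty.isomorphisms CommRingCat).arrow_mk_iso_iff e).1
        (inferInstanceAs (IsIso (f.stalkMap x)))
    exact (ConcreteCategory.isIso_iff_bijective _).1 hiso
  have _ : Algebra.FiniteType Γ(Y, U₀) Γ(X, V₀) := hft
  obtain ⟨t, ht, r, T, _, _, _, _, hT1, hT2⟩ := exists_away_isLocalization (R := Γ(Y, U₀))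
    (S := Γ(X, V₀)) q hbij (h.imp (fun h1 => h1) (fun h2 => ⟨h2.1, hcomap.symm.trans h2.2⟩))
  have hi1 : IsOpenImmersion (Spec.map (CommRingCat.ofHom (algebraMap Γ(X, V₀) T))) :=
    IsOpenImmersion.of_isLocalization t
  have hi2 : IsOpenImmersion (Spec.map (CommRingCat.ofHom (algebraMap Γ(Y, U₀) T))) :=
    IsOpenImmersion.of_isLocalization r
  refine ⟨Spec (.of T), Spec.map (CommRingCat.ofHom (algebraMap Γ(X, V₀) T)) ≫ hV.fromSpec,
    inferInstance, ?_, ?_⟩
  · have hmem : hV.primeIdealOf ⟨x, hx⟩ ∈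
        Set.range (PrimeSpectrum.comap (algebraMap Γ(X, V₀) T)) := by
      rw [PrimeSpectrum.localization_away_comap_range T t]
      exact ht
    obtain ⟨z, hz⟩ := hmem
    refine ⟨z, ?_⟩
    rw [Scheme.Hom.comp_apply]
    have : (Spec.map (CommRingCat.ofHom (algebraMap Γ(X, V₀) T))) z =
        hV.primeIdealOf ⟨x, hx⟩ := hz
    rw [this]
    exact hV.fromSpec_primeIdealOf ⟨x, hx⟩
  · have hcomp : f.appLE U₀ V₀ hle ≫ CommRingCat.ofHom (algebraMap Γ(X, V₀) T) =
        CommRingCat.ofHom (algebraMap Γ(Y, U₀) T) := by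
      ext a
      exact (IsScalarTower.algebraMap_apply Γ(Y, U₀) Γ(X, V₀) T a).symm
    rw [Category.assoc, ← IsAffineOpen.SpecMap_appLE_fromSpec f hU hV hle, ← Category.assoc,
      ← Spec.map_comp, hcomp]
    infer_instance

/-- If `U₀ ≤ W` is a nonempty affine open in an integral open `W` and `y ∈ U₀` specializes to
every point of `W`, then `Γ(Y, U₀)` is a domain and `y` corresponds to the zero ideal. -/
theorem isDomain_and_primeIdealOf_eq_bot {Y : Scheme.{u}} {W U₀ : Y.Opens} (hU : IsAffineOpen U₀)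
    (hUW : U₀ ≤ W) [IsIntegral W.toScheme] (y : Y) (hy : y ∈ U₀) (hgen : ∀ z ∈ W, y ⤳ z) :
    IsDomain Γ(Y, U₀) ∧ (hU.primeIdealOf ⟨y, hy⟩).asIdeal = ⊥ := by
  have : Nonempty U₀.toScheme := ⟨⟨y, hy⟩⟩
  have hint : IsIntegral U₀.toScheme := isIntegral_of_isOpenImmersion (Y.homOfLE hUW)
  have hdom : IsDomain Γ(Y, U₀) :=
    (Scheme.Opens.topIso U₀).symm.commRingCatIsoToRingEquiv.toMulEquiv.isDomain Γ(U₀.toScheme, ⊤)
  refine ⟨hdom, ?_⟩
  let b : PrimeSpectrum Γ(Y, U₀) := ⟨⊥, Ideal.isPrime_bot⟩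
  obtain ⟨z, hz⟩ : ∃ z : U₀.toScheme, hU.isoSpec.hom z = b :=
    ⟨hU.isoSpec.inv b, by rw [← Scheme.Hom.comp_apply, Iso.inv_hom_id]; rfl⟩
  have h1 : (⟨y, hy⟩ : U₀) ⤳ z := (subtype_specializes_iff _ _).2 (hgen z.1 (hUW z.2))
  have h2 : hU.primeIdealOf ⟨y, hy⟩ ⤳ b := by
    rw [← hz]
    exact h1.map hU.isoSpec.hom.continuous
  have h3 := (PrimeSpectrum.le_iff_specializes _ _).2 h2
  exact le_bot_iff.1 h3

/-- The local lemma: a morphism which is an isomorphism on the local ring at `x` and is locally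
of finite presentation (or locally of finite type with integral target near `f x`, the generic
point) is an open immersion on a neighbourhood of `x`. -/
theorem exists_opens_isOpenImmersion {X Y : Scheme.{u}} (f : X ⟶ Y) (x : X)
    [IsIso (f.stalkMap x)]
    (h : LocallyOfFinitePresentation f ∨
      (LocallyOfFiniteType f ∧ ∃ W : Y.Opens, f x ∈ W ∧ IsIntegral W.toScheme ∧
        ∀ y ∈ W, f x ⤳ y)) :
    ∃ U : X.Opens, x ∈ U ∧ IsOpenImmersion (U.ι ≫ f) := by
  obtain ⟨W, hxW, hW⟩ : ∃ W : Y.Opens, f x ∈ W ∧ (LocallyOfFinitePresentation f ∨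
      (LocallyOfFiniteType f ∧ IsIntegral W.toScheme ∧ ∀ y ∈ W, f x ⤳ y)) := by
    rcases h with h | ⟨h1, W, h2, h3, h4⟩
    · exact ⟨⊤, trivial, Or.inl h⟩
    · exact ⟨W, h2, Or.inr ⟨h1, h3, h4⟩⟩
  obtain ⟨_, ⟨U₀, hU, rfl⟩, hxU, hUW⟩ :=
    Y.isBasis_affineOpens.exists_subset_of_mem_open hxW W.2
  obtain ⟨_, ⟨V₀, hV, rfl⟩, hxV, hVU⟩ :=
    X.isBasis_affineOpens.exists_subset_of_mem_open (show x ∈ f ⁻¹ᵁ U₀ from hxU) (f ⁻¹ᵁ U₀).2
  have hft : LocallyOfFiniteType f := hW.elim (fun _ => inferInstance) (·.1)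
  obtain ⟨U, j, hj, hxj, hjf⟩ := exists_isOpenImmersion_of_affineOpens f x hU hV hVU hxV
    (f.finiteType_appLE hU hV hVU) (by
      rcases hW with h | ⟨_, hint, hgen⟩
      · exact Or.inl (f.finitePresentation_appLE hU hV hVU)
      · exact Or.inr (isDomain_and_primeIdealOf_eq_bot hU hUW (f x) (hVU hxV) hgen))
  refine ⟨j.opensRange, hxj, ?_⟩
  have he : (IsOpenImmersion.isoOfRangeEq j.opensRange.ι j (by simp)).hom ≫ j =
      j.opensRange.ι := IsOpenImmersion.isoOfRangeEq_hom_fac _ _ _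
  rw [← he, Category.assoc]
  infer_instance

end Groth.Agent.H53.Birat
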