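import Groth.Agent.H53.Birat.Fibre
import Groth.Agent.H53.Birat.Lift
import Groth.Agent.H53.OpenSub
import Groth.Agent.Lib.Helper54.FlatMonoSp

set_option autoImplicit false
set_option backward.isDefEq.respectTransparency false
universe u
open CategoryTheory CategoryTheory.Limits AlgebraicGeometry AlgSp
open Groth.Agent.Lib.Helper54 Groth.Agent.H53.GenFin

namespace Groth.Agent.H53.Birat

variable {S : Scheme.{u}}

/-- (B0) The open subscheme of the target in the local-ring condition of a birational morphism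
may be prescribed. -/
theorem exists_stalkIso_chart {X Y : Sp S} (f : X ⟶ Y)
    (hf : W4stk3decentspacesp2.IsBirational f) (x : Points X)
    (hx : x ∈ genericPoints (Points X)) {V : Over S} (b : (yon S).obj V ⟶ Y)
    (hb : RepWith @IsOpenImmersion b) (v : ↥V.left) (hv : Points.ofPt b v = Points.map f x) :
    ∃ (U : Over S) (a : (yon S).obj U ⟶ X) (g : U ⟶ V) (u : ↥U.left),
      RepWith @IsOpenImmersion a ∧ a ≫ f = (yon S).map g ≫ b ∧ Points.ofPt a u = x ∧
        g.left u = v ∧ IsIso (g.left.stalkMap u) := by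
  obtain ⟨U₀, V₀, a₀, b₀, g₀, u₀, ha₀, hb₀, hcomm₀, hau₀, hiso₀⟩ := hf.stalkIso x hx
  -- `V₁ = V₀ ×_Y V`
  obtain ⟨V₁, p, q, sqV, hp⟩ := exists_pullback_of_repWith b₀ b hb
  have hq : IsOpenImmersion q.left := hb₀.property _ _ _ sqV
  have hpt : Points.ofPt b₀ (g₀.left u₀) = Points.ofPt b v := by
    rw [hv, ← hau₀, Points.map_ofPt, hcomm₀, H53.ofPt_yon_map_comp]
  obtain ⟨v₁, hv₁p, hv₁q⟩ := CodimQF.exists_point_of_isPullback_yon sqV (g₀.left u₀) v hpt
  -- `U = U₀ ×_{V₀} V₁`
  have hp' : RepWith @IsOpenImmersion ((yon S).map p) := (repWith_yon_map_iff _ _).2 hp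
  obtain ⟨U, r, s, sqU, hr⟩ := exists_pullback_of_repWith ((yon S).map g₀) ((yon S).map p) hp'
  obtain ⟨u, hur, hus⟩ := CodimQF.exists_point_of_isPullback_yon sqU u₀ v₁
    (by rw [FibrePts.ofPt_yon_map, FibrePts.ofPt_yon_map, hv₁p])
  have hrs : r ≫ g₀ = s ≫ p := by
    apply (yon S).map_injective
    rw [Functor.map_comp, Functor.map_comp]
    exact sqU.w
  have hr' : RepWith @IsOpenImmersion ((yon S).map r) := (repWith_yon_map_iff _ _).2 hr
  refine ⟨U, (yon S).map r ≫ a₀, s ≫ q, u, (RepWith (S := S) @IsOpenImmersion).comp_mem _ _ hr' ha₀,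
    ?_, ?_, ?_, ?_⟩
  · rw [Category.assoc, hcomm₀, ← Functor.map_comp_assoc, hrs, Functor.map_comp, Functor.map_comp,
      Category.assoc, Category.assoc, sqV.w]
  · rw [H53.ofPt_yon_map_comp, hur, hau₀]
  · rw [Over.comp_left, Scheme.Hom.comp_apply, hus, hv₁q]
  · subst hur
    have h1 : r.left ≫ g₀.left = s.left ≫ p.left := by
      rw [← Over.comp_left, ← Over.comp_left, hrs]
    have h2 : IsIso (s.left.stalkMap u) := isIso_stalkMap_of_comp_eq r.left g₀.left s.left p.left h1 u
    rw [Over.comp_left, Scheme.Hom.stalkMap_comp]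
    infer_instance

theorem subsingleton_spec_stalk_of_dim_zero {V : Scheme.{u}} (v : V)
    (h : ringKrullDim ↥(V.presheaf.stalk v) = 0) : Subsingleton ↥(Spec (V.presheaf.stalk v)) := by
  have : Ring.KrullDimLE 0 ↥(V.presheaf.stalk v) := (Ring.krullDimLE_iff).2 h.le
  exact inferInstanceAs (Subsingleton (PrimeSpectrum ↥(V.presheaf.stalk v)))

/-- S10434. -/
theorem isIso_snd_of_isBirational {X Y : Sp S} (hX : IsAlgSpace X) (hXd : IsDecent X)
    (hY : IsAlgSpace Y) (hYd : IsDecent Y) (f : X ⟶ Y)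
    (hf : W4stk3decentspacesp2.IsBirational f) {V : Over S} (b : (yon S).obj V ⟶ Y)
    (hb : RepWith @IsOpenImmersion b) (v : ↥V.left)
    (hv : Points.ofPt b v ∈ genericPoints (Points Y)) {P : Sp S} (fst : P ⟶ X)
    (snd : P ⟶ (yon S).obj (Over.mk (V.left.fromSpecStalk v ≫ V.hom)))
    (hP : IsPullback fst snd f ((yon S).map (Over.homMk (V.left.fromSpecStalk v) rfl) ≫ b)) :
    IsIso snd := by
  obtain ⟨x, hx, hxy⟩ := hf.bijOn.surjOn hv
  obtain ⟨U, a, g, u, ha, hcomm, hau, hgu, hiso⟩ :=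
    exists_stalkIso_chart f hf x hx b hb v hxy.symm
  subst hgu
  have hdim : ringKrullDim ↥(V.left.presheaf.stalk (g.left u)) = 0 :=
    (ringKrullDim_stalk_eq_zero_iff_of_isDecent hY hYd b (repWith_etale_of_isOpenImmersion hb) _).2 hv
  have hsub := subsingleton_spec_stalk_of_dim_zero _ hdim
  let T : Over S := Over.mk (V.left.fromSpecStalk (g.left u) ≫ V.hom)
  let i : T ⟶ V := Over.homMk (V.left.fromSpecStalk (g.left u)) rfl
  let s₀ : T.left ⟶ U.left := Spec.map (inv (g.left.stalkMap u)) ≫ U.left.fromSpecStalk u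
  have hs₀ : s₀ ≫ g.left = V.left.fromSpecStalk (g.left u) := by
    simp only [s₀, Category.assoc]
    rw [← Scheme.SpecMap_stalkMap_fromSpecStalk, ← Spec.map_comp_assoc, IsIso.hom_inv_id,
      Spec.map_id, Category.id_comp]
  let s : T ⟶ U := Over.homMk s₀ (by
    rw [← Over.w g, reassoc_of% hs₀]
    rfl)
  have hsg : s ≫ g = i := by
    ext
    exact hs₀
  let σ : (yon S).obj T ⟶ P := hP.lift ((yon S).map s ≫ a) (𝟙 _) (by
    rw [Category.assoc, hcomm, ← Functor.map_comp_assoc, hsg, Category.id_comp])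
  have hσ1 : σ ≫ snd = 𝟙 _ := hP.lift_snd _ _ _
  have hσ2 : σ ≫ fst = (yon S).map s ≫ a := hP.lift_fst _ _ _
  have hbm : Mono b := GenFin.mono_of_isOpenImmersion b hb
  have hkey : ∀ (Z : Over S) [IsAffine Z.left] (c : (yon S).obj Z ⟶ P),
      c ≫ fst = c ≫ snd ≫ ((yon S).map s ≫ a) := by
    intro Z _ c
    obtain ⟨q', hq'⟩ := (yon S).map_surjective (c ≫ snd)
    have hpts : ∀ z : ↥Z.left, Points.ofPt (c ≫ fst) z = x := by
      intro z
      have hfz : Points.map f (Points.ofPt (c ≫ fst) z) = Points.ofPt b (g.left u) := by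
        rw [Points.map_ofPt, Category.assoc, hP.w, ← Category.assoc, ← hq', ← Category.assoc,
          ← Functor.map_comp, H53.ofPt_yon_map_comp]
        congr 1
        change V.left.fromSpecStalk (g.left u) (q'.left z) = _
        have hz : (q'.left z : ↥(Spec (V.left.presheaf.stalk (g.left u)))) =
            IsLocalRing.closedPoint _ := hsub.elim _ _
        rw [hz, Scheme.fromSpecStalk_closedPoint]
      have hgen : Points.ofPt (c ≫ fst) z ∈ genericPoints (Points X) :=
        mem_genericPoints_of_map_mem hX hXd hY hYd f hf _ (hfz ▸ hv)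
      exact hf.bijOn.injOn hgen hx (hfz.trans hxy.symm)
    have hrange : Set.range (Points.map (c ≫ fst)) ⊆ Set.range (Points.map a) := by
      rintro _ ⟨ξ, rfl⟩
      obtain ⟨z, rfl⟩ := (Points.schemeEquiv Z).surjective ξ
      refine ⟨Points.ofScheme U u, ?_⟩
      rw [← Points.ofPt_eq_map_ofScheme, hau]
      exact (hpts z).symm.trans (Points.ofPt_eq_map_ofScheme _ _)
    obtain ⟨e, he⟩ := H53.exists_factor_of_range_subset a ha (c ≫ fst) hrange
    obtain ⟨p', rfl⟩ := (yon S).map_surjective e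
    have hp'u : ∀ z : ↥Z.left, p'.left z = u := by
      intro z
      apply injective_ofPt_of_isOpenImmersion a ha
      rw [← H53.ofPt_yon_map_comp, he, hpts z, hau]
    have hp'g : p' ≫ g = q' ≫ i := by
      apply (yon S).map_injective
      rw [← cancel_mono b, Functor.map_comp, Functor.map_comp, Category.assoc, Category.assoc,
        ← hcomm, reassoc_of% he, hP.w, hq', Category.assoc]
    have hp'g' : p'.left ≫ g.left = q'.left ≫ V.left.fromSpecStalk (g.left u) := by
      have := congrArg (fun t => t.left) hp'g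
      exact this
    have h1 : p'.left = q'.left ≫ s₀ := eq_comp_section g.left u p'.left q'.left hp'u hp'g'
    have h2 : p' = q' ≫ s := by
      ext
      exact h1
    rw [← he, h2, Functor.map_comp, hq', Category.assoc, Category.assoc]
  have key : fst = snd ≫ ((yon S).map s ≫ a) := by
    apply H52.sp_hom_ext
    intro Z₀ c₀
    apply yon_hom_ext_of_affineOpens
    intro Zo
    have hZaff : IsAffine (H52.overOpen Z₀ Zo.1).left := Zo.2
    have := hkey (H52.overOpen Z₀ Zo.1) ((yon S).map (H52.overOpenι Z₀ Zo.1) ≫ c₀)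
    simpa only [Category.assoc] using this
  refine ⟨σ, ?_, hσ1⟩
  apply hP.hom_ext
  · rw [Category.assoc, hσ2, Category.id_comp, ← key]
  · rw [Category.assoc, hσ1, Category.comp_id, Category.id_comp]

end Groth.Agent.H53.Birat
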