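import Mathlib

set_option autoImplicit false
set_option backward.isDefEq.respectTransparency false
universe u

namespace Groth.Agent.H53.Birat

variable {B A : Type u} [CommRing B] [CommRing A] [Algebra B A]

/-- The minimal prime of `B` contained in a maximal ideal `𝔪` such that `B_𝔪` is a domain. -/
theorem exists_minimalPrime_le_of_isDomain (𝔪 : Ideal B) [𝔪.IsPrime]
    [IsDomain (Localization.AtPrime 𝔪)] :
    ∃ q ∈ minimalPrimes B, q ≤ 𝔪 ∧ (∀ b ∈ q, ∃ s ∉ 𝔪, s * b = 0) ∧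
      ∀ q' : Ideal B, q'.IsPrime → q' ≤ 𝔪 → q ≤ q' := by
  let R := Localization.AtPrime 𝔪
  let q : Ideal B := RingHom.ker (algebraMap B R)
  have hqprime : q.IsPrime := RingHom.ker_isPrime _
  have hker : ∀ b ∈ q, ∃ s ∉ 𝔪, s * b = 0 := by
    intro b hb
    obtain ⟨⟨s, hs⟩, hsb⟩ := (IsLocalization.map_eq_zero_iff 𝔪.primeCompl R b).1 hb
    exact ⟨s, hs, hsb⟩
  have hle : ∀ q' : Ideal B, q'.IsPrime → q' ≤ 𝔪 → q ≤ q' := by
    intro q' hq' hq'm b hb
    obtain ⟨s, hs, hsb⟩ := hker b hb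
    exact (hq'.mem_or_mem (hsb ▸ q'.zero_mem : s * b ∈ q')).resolve_left fun h => hs (hq'm h)
  have hqm : q ≤ 𝔪 := hle 𝔪 inferInstance le_rfl
  refine ⟨q, ⟨⟨hqprime, bot_le⟩, fun q' hq' hq'q => hle q' hq'.1 (hq'q.trans hqm)⟩, hqm, hker, hle⟩

/-- An element lying in all minimal primes "near `𝔪`" of a reduced algebra is killed by an
element outside `𝔪`. -/
theorem exists_mul_eq_zero_of_mem_minimalPrimes [IsReduced A] (𝔪 : Ideal B) [𝔪.IsPrime] (e : A)
    (h : ∀ p ∈ minimalPrimes A, p.under B ≤ 𝔪 → e ∈ p) :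
    ∃ s ∉ 𝔪, algebraMap B A s * e = 0 := by
  let M : Submonoid A :=
    { carrier := {x | ∃ s ∉ 𝔪, ∃ n : ℕ, x = algebraMap B A s * e ^ n}
      one_mem' := ⟨1, fun h1 => Ideal.IsPrime.ne_top inferInstance ((Ideal.eq_top_iff_one 𝔪).2 h1),
        0, by simp⟩
      mul_mem' := by
        rintro _ _ ⟨s, hs, n, rfl⟩ ⟨s', hs', n', rfl⟩
        exact ⟨s * s', fun h => (Ideal.IsPrime.mem_or_mem inferInstance h).elim hs hs', n + n',
          by rw [map_mul, pow_add]; ring⟩ }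
  by_cases h0 : (0 : A) ∈ M
  · obtain ⟨s, hs, n, hn⟩ := h0
    refine ⟨s, hs, ?_⟩
    have hnil : IsNilpotent (algebraMap B A s * e) := by
      refine ⟨n + 1, ?_⟩
      have : (algebraMap B A s * e) ^ (n + 1) =
          (algebraMap B A s ^ n * e) * (algebraMap B A s * e ^ n) := by ring
      rw [this, ← hn, mul_zero]
    exact hnil.eq_zero
  · exfalso
    have hdisj : Disjoint ((⊥ : Ideal A) : Set A) (M : Set A) := by
      rw [Set.disjoint_left]
      intro x hx hxM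
      rw [SetLike.mem_coe, Ideal.mem_bot] at hx
      exact h0 (hx ▸ hxM)
    obtain ⟨P, hP, -, hPM⟩ := Ideal.exists_le_prime_disjoint ⊥ M hdisj
    obtain ⟨p, hp, hpP⟩ := Ideal.exists_minimalPrimes_le (bot_le : (⊥ : Ideal A) ≤ P)
    have hpm : p.under B ≤ 𝔪 := by
      intro b hb
      by_contra hbm
      exact Set.disjoint_left.1 hPM (hpP (Ideal.mem_comap.1 hb)) ⟨b, hbm, 0, by simp⟩
    exact Set.disjoint_left.1 hPM (hpP (h p hp hpm))
      ⟨1, fun h1 => Ideal.IsPrime.ne_top inferInstance ((Ideal.eq_top_iff_one 𝔪).2 h1), 1, by simp⟩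

/-- If `B_𝔪` is a domain and `q ≤ 𝔪` is the kernel of `B → B_𝔪`, then `B_q` is the fraction field
of `B_𝔪`. -/
theorem exists_isFractionRing (𝔪 q : Ideal B) [𝔪.IsPrime] [q.IsPrime]
    [IsDomain (Localization.AtPrime 𝔪)] (hqm : q ≤ 𝔪) (hker : ∀ b ∈ q, ∃ s ∉ 𝔪, s * b = 0) :
    ∃ (_ : Algebra (Localization.AtPrime 𝔪) (Localization.AtPrime q)),
      IsScalarTower B (Localization.AtPrime 𝔪) (Localization.AtPrime q) ∧
      IsFractionRing (Localization.AtPrime 𝔪) (Localization.AtPrime q) := by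
  let R := Localization.AtPrime 𝔪
  let K := Localization.AtPrime q
  have hMN : 𝔪.primeCompl ≤ q.primeCompl := fun x hx hxq => hx (hqm hxq)
  let alg : Algebra R K := IsLocalization.localizationAlgebraOfSubmonoidLe R K _ _ hMN
  have tower : IsScalarTower B R K :=
    IsLocalization.localization_isScalarTower_of_submonoid_le R K _ _ hMN
  have hloc : IsLocalization (q.primeCompl.map (algebraMap B R)) K :=
    IsLocalization.isLocalization_of_submonoid_le R K _ _ hMN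
  have hzero : ∀ b : B, algebraMap B R b = 0 ↔ b ∈ q := by
    intro b
    constructor
    · intro hb
      obtain ⟨⟨t, ht⟩, htb⟩ := (IsLocalization.map_eq_zero_iff 𝔪.primeCompl R b).1 hb
      exact (Ideal.IsPrime.mem_or_mem inferInstance (htb ▸ q.zero_mem : t * b ∈ q)).resolve_left
        fun h => ht (hqm h)
    · intro hb
      obtain ⟨s, hs, hsb⟩ := hker b hb
      exact (IsLocalization.map_eq_zero_iff 𝔪.primeCompl R b).2 ⟨⟨s, hs⟩, hsb⟩
  refine ⟨alg, tower, ?_⟩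
  refine IsLocalization.isLocalization_of_is_exists_mul_mem K
    (q.primeCompl.map (algebraMap B R)) (nonZeroDivisors R) ?_ ?_
  · rintro _ ⟨s, hs, rfl⟩
    rw [mem_nonZeroDivisors_iff_ne_zero]
    exact fun h0 => hs ((hzero s).1 h0)
  · rintro ⟨x, hx⟩
    obtain ⟨b, ⟨s, hs⟩, rfl⟩ := IsLocalization.exists_mk'_eq 𝔪.primeCompl x
    refine ⟨algebraMap B R s, ?_⟩
    have hspec : algebraMap B R s * IsLocalization.mk' R b (⟨s, hs⟩ : 𝔪.primeCompl) =
        algebraMap B R b := IsLocalization.mk'_spec' R b ⟨s, hs⟩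
    change algebraMap B R s * IsLocalization.mk' R b (⟨s, hs⟩ : 𝔪.primeCompl) ∈ _
    rw [hspec]
    refine ⟨b, ?_, rfl⟩
    intro hbq
    have h0 : algebraMap B R b = 0 := (hzero b).2 hbq
    have hx0 := mem_nonZeroDivisors_iff_ne_zero.1 hx
    apply hx0
    rw [IsLocalization.mk'_eq_zero_iff]
    obtain ⟨s', hs', hsb⟩ := hker b hbq
    exact ⟨⟨s', hs'⟩, hsb⟩

end Groth.Agent.H53.Birat
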