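import Groth.Agent.H53.Birat.NormAlg

set_option autoImplicit false
set_option backward.isDefEq.respectTransparency false
universe u

namespace Groth.Agent.H53.Birat

open Polynomial

variable {B A : Type u} [CommRing B] [CommRing A] [Algebra B A]

/-- The conductor-type ideal of elements of `B` multiplying `a` into the image of `B`. -/
def conductorAt (a : A) : Ideal B where
  carrier := {b | algebraMap B A b * a ∈ Set.range (algebraMap B A)}
  add_mem' := by
    rintro x y ⟨x', hx⟩ ⟨y', hy⟩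
    exact ⟨x' + y', by rw [map_add, map_add, add_mul, hx, hy]⟩
  zero_mem' := ⟨0, by simp⟩
  smul_mem' := by
    rintro c x ⟨x', hx⟩
    exact ⟨c * x', by rw [smul_eq_mul, map_mul, map_mul, mul_assoc, hx]⟩

theorem mem_conductorAt (a : A) (b : B) :
    b ∈ conductorAt (B := B) a ↔ ∃ b', algebraMap B A b' = algebraMap B A b * a := Iff.rfl

/-- An integral "birational" ring map from a ring with normal local rings to a reduced ring is
bijective. -/
theorem bijective_algebraMap_of_integral_of_normal [Algebra.IsIntegral B A] [IsReduced A]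
    (hN : ∀ 𝔪 : Ideal B, ∀ _ : 𝔪.IsMaximal, IsDomain (Localization.AtPrime 𝔪) ∧
      IsIntegrallyClosed (Localization.AtPrime 𝔪))
    (h1 : ∀ p ∈ minimalPrimes A, ∀ _ : p.IsPrime, p.under B ∈ minimalPrimes B ∧
      Function.Bijective (Localization.localRingHom (p.under B) p (algebraMap B A) rfl))
    (h2 : ∀ p ∈ minimalPrimes A, ∀ p' ∈ minimalPrimes A, p.under B = p'.under B → p = p')
    (h3 : ∀ q ∈ minimalPrimes B, ∃ p ∈ minimalPrimes A, p.under B = q) :
    Function.Bijective (algebraMap B A) := by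
  constructor
  · rw [injective_iff_map_eq_zero]
    intro b hb
    apply eq_zero_of_localization
    intro 𝔪 h𝔪
    have _ := (hN 𝔪 h𝔪).1
    obtain ⟨q, hq, -, hker, -⟩ := exists_minimalPrime_le_of_isDomain 𝔪
    obtain ⟨p, hp, rfl⟩ := h3 q hq
    have hbq : b ∈ p.under B := by
      rw [Ideal.mem_comap, hb]; exact p.zero_mem
    obtain ⟨s, hs, hsb⟩ := hker b hbq
    exact (IsLocalization.map_eq_zero_iff 𝔪.primeCompl _ b).2 ⟨⟨s, hs⟩, hsb⟩
  · intro a
    by_contra hcon
    have hne : conductorAt (B := B) a ≠ ⊤ := by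
      intro htop
      have h1 : (1 : B) ∈ conductorAt (B := B) a := htop ▸ Submodule.mem_top
      obtain ⟨b', hb'⟩ := (mem_conductorAt a 1).1 h1
      exact hcon ⟨b', by rw [hb', map_one, one_mul]⟩
    obtain ⟨𝔪, h𝔪, hc𝔪⟩ := Ideal.exists_le_maximal _ hne
    have _ := (hN 𝔪 h𝔪).1
    have _ := (hN 𝔪 h𝔪).2
    have _ : 𝔪.IsPrime := h𝔪.isPrime
    obtain ⟨q, hq, hqm, hker, hqle⟩ := exists_minimalPrime_le_of_isDomain 𝔪
    obtain ⟨p₀, hp₀, hp₀q⟩ := h3 q hq
    have hp₀prime : p₀.IsPrime := hp₀.1.1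
    have hqprime : q.IsPrime := hq.1.1
    subst hp₀q
    obtain ⟨-, hψ⟩ := h1 p₀ hp₀ hp₀prime
    obtain ⟨alg, tower, hfrac⟩ := exists_isFractionRing 𝔪 (p₀.under B) hqm hker
    let R := Localization.AtPrime 𝔪
    let K := Localization.AtPrime (p₀.under B)
    let L := Localization.AtPrime p₀
    let ψ : K →+* L := Localization.localRingHom (p₀.under B) p₀ (algebraMap B A) rfl
    have hψcomp : ψ.comp (algebraMap B K) = (algebraMap A L).comp (algebraMap B A) := by
      ext b
      exact Localization.localRingHom_to_map _ _ _ rfl b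
    obtain ⟨κ, hκ⟩ := hψ.2 (algebraMap A L a)
    -- κ is integral over R
    have hκint : IsIntegral R κ := by
      obtain ⟨P, hPm, hPa⟩ := Algebra.IsIntegral.isIntegral (R := B) a
      refine ⟨P.map (algebraMap B R), hPm.map _, ?_⟩
      rw [eval₂_map, ← IsScalarTower.algebraMap_eq B R K]
      apply hψ.1
      rw [map_zero]
      change ψ (eval₂ (algebraMap B K) κ P) = 0
      rw [hom_eval₂, hψcomp, hκ, ← hom_eval₂, hPa, map_zero]
    obtain ⟨β, hβ⟩ := (IsIntegrallyClosed.isIntegral_iff (R := R) (K := K)).1 hκint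
    obtain ⟨b₂, ⟨s₃, hs₃⟩, rfl⟩ := IsLocalization.exists_mk'_eq 𝔪.primeCompl β
    have hspec : algebraMap B R s₃ * IsLocalization.mk' R b₂ (⟨s₃, hs₃⟩ : 𝔪.primeCompl) =
        algebraMap B R b₂ := IsLocalization.mk'_spec' R b₂ ⟨s₃, hs₃⟩
    have hK : algebraMap B K s₃ * κ = algebraMap B K b₂ := by
      rw [← hβ, IsScalarTower.algebraMap_apply B R K, IsScalarTower.algebraMap_apply B R K,
        ← map_mul, hspec]
    have hL : algebraMap A L (algebraMap B A s₃ * a - algebraMap B A b₂) = 0 := by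
      have := congrArg ψ hK
      rw [map_mul, hκ] at this
      have e1 : ψ (algebraMap B K s₃) = algebraMap A L (algebraMap B A s₃) :=
        RingHom.congr_fun hψcomp s₃
      have e2 : ψ (algebraMap B K b₂) = algebraMap A L (algebraMap B A b₂) :=
        RingHom.congr_fun hψcomp b₂
      rw [e1, e2] at this
      rw [map_sub, map_mul, this, sub_self]
    set e : A := algebraMap B A s₃ * a - algebraMap B A b₂ with he
    have hep₀ : e ∈ p₀ := by
      obtain ⟨⟨t, ht⟩, hte⟩ := (IsLocalization.map_eq_zero_iff p₀.primeCompl L e).1 hL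
      exact (hp₀prime.mem_or_mem (hte ▸ p₀.zero_mem : t * e ∈ p₀)).resolve_left ht
    have hall : ∀ p ∈ minimalPrimes A, p.under B ≤ 𝔪 → e ∈ p := by
      intro p hp hpm
      have hpprime : p.IsPrime := hp.1.1
      obtain ⟨hpmin, -⟩ := h1 p hp hpprime
      have hle : p₀.under B ≤ p.under B := hqle _ hpmin.1.1 hpm
      have heq : p.under B = p₀.under B := le_antisymm (hpmin.2 ⟨hqprime, bot_le⟩ hle) hle
      rw [h2 p hp p₀ hp₀ heq]
      exact hep₀
    obtain ⟨s₂, hs₂, hs₂e⟩ := exists_mul_eq_zero_of_mem_minimalPrimes 𝔪 e hall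
    have hmem : s₂ * s₃ ∈ conductorAt (B := B) a := by
      rw [mem_conductorAt]
      refine ⟨s₂ * b₂, ?_⟩
      rw [he, mul_sub, sub_eq_zero] at hs₂e
      rw [map_mul, map_mul, mul_assoc, hs₂e]
    exact (h𝔪.isPrime.mem_or_mem (hc𝔪 hmem)).elim hs₂ hs₃

end Groth.Agent.H53.Birat
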