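import Groth.Agent.H53.Birat.NormAlg

set_option autoImplicit false
set_option backward.isDefEq.respectTransparency false
universe u

namespace Groth.Agent.H53.Birat

variable {R : Type u} [CommRing R]

theorem isReduced_of_forall_isDomain_localization
    (h : ∀ 𝔪 : Ideal R, ∀ _ : 𝔪.IsMaximal, IsDomain (Localization.AtPrime 𝔪)) : IsReduced R := by
  constructor
  intro x hx
  apply eq_zero_of_localization
  intro 𝔪 h𝔪
  have _ := h 𝔪 h𝔪
  exact (hx.map (algebraMap R (Localization.AtPrime 𝔪))).eq_zero

/-- In a ring with finitely many minimal primes whose local rings are normal domains, every prime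
has a basic open neighbourhood which is the spectrum of a normal domain. -/
theorem exists_away_isDomain_isIntegrallyClosed (hfin : (minimalPrimes R).Finite)
    (hN : ∀ 𝔭 : Ideal R, ∀ _ : 𝔭.IsPrime, IsDomain (Localization.AtPrime 𝔭) ∧
      IsIntegrallyClosed (Localization.AtPrime 𝔭))
    (𝔭₀ : Ideal R) [𝔭₀.IsPrime] :
    ∃ f : R, f ∉ 𝔭₀ ∧ ∀ (Rf : Type u) [CommRing Rf] [Algebra R Rf] [IsLocalization.Away f Rf],
      IsDomain Rf ∧ IsIntegrallyClosed Rf := by
  have _ := (hN 𝔭₀ inferInstance).1
  have hred : IsReduced R :=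
    isReduced_of_forall_isDomain_localization fun 𝔪 h𝔪 => (hN 𝔪 h𝔪.isPrime).1
  obtain ⟨q, hq, hq𝔭, -, hqle⟩ := exists_minimalPrime_le_of_isDomain 𝔭₀
  have hqprime : q.IsPrime := hq.1.1
  -- choose elements of the other minimal primes outside `𝔭₀`
  have hother : ∀ q' ∈ minimalPrimes R, q' ≠ q → ∃ x ∈ q', x ∉ 𝔭₀ := by
    intro q' hq' hne
    by_contra hcon
    push Not at hcon
    have hle : q' ≤ 𝔭₀ := hcon
    exact hne (le_antisymm (hq'.2 ⟨hqprime, bot_le⟩ (hqle q' hq'.1.1 hle)) (hqle q' hq'.1.1 hle))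
  classical
  choose! x hx1 hx2 using hother
  let F : Finset (Ideal R) := hfin.toFinset.erase q
  let f : R := ∏ q' ∈ F, x q'
  have hf𝔭 : f ∉ 𝔭₀ := by
    intro hmem
    obtain ⟨q', hq'F, hq'⟩ := (Ideal.IsPrime.prod_mem_iff).1 hmem
    rw [Finset.mem_erase, Set.Finite.mem_toFinset] at hq'F
    exact hx2 q' hq'F.2 hq'F.1 hq'
  have hfq : f ∉ q := fun h => hf𝔭 (hq𝔭 h)
  have hfmem : ∀ q' ∈ minimalPrimes R, q' ≠ q → f ∈ q' := by
    intro q' hq' hne
    have hq'F : q' ∈ F := by
      rw [Finset.mem_erase, Set.Finite.mem_toFinset]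
      exact ⟨hne, hq'⟩
    exact Ideal.prod_mem q' hq'F (hx1 q' hq' hne)
  -- elements of `q` are killed by `f`
  have hkill : ∀ y ∈ q, f * y = 0 := by
    intro y hy
    have hnil : f * y ∈ nilradical R := by
      rw [nilradical, ← Ideal.sInf_minimalPrimes, Ideal.mem_sInf]
      intro q' hq'
      by_cases hne : q' = q
      · rw [hne]; exact q.mul_mem_left _ hy
      · exact q'.mul_mem_right _ (hfmem q' hq' hne)
    exact (mem_nilradical.1 hnil).eq_zero
  refine ⟨f, hf𝔭, ?_⟩
  intro Rf _ _ _
  have hzero : ∀ y : R, algebraMap R Rf y = 0 ↔ y ∈ q := by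
    intro y
    rw [IsLocalization.map_eq_zero_iff (Submonoid.powers f)]
    constructor
    · rintro ⟨⟨_, n, rfl⟩, hn⟩
      have : f ^ n * y ∈ q := by
        change f ^ n * y = 0 at hn
        rw [hn]; exact q.zero_mem
      exact (hqprime.mem_or_mem this).resolve_left fun h => hfq (hqprime.mem_of_pow_mem n h)
    · intro hy
      exact ⟨⟨f, Submonoid.mem_powers f⟩, hkill y hy⟩
  have hdom : IsDomain Rf := by
    have hnt : Nontrivial Rf := by
      refine ⟨⟨1, 0, ?_⟩⟩
      intro h10
      have := (hzero 1).1 (by rw [map_one, h10])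
      exact hqprime.ne_top ((Ideal.eq_top_iff_one q).2 this)
    have hnzd : NoZeroDivisors Rf := by
      constructor
      intro a b hab
      obtain ⟨⟨a', sa⟩, ha⟩ := IsLocalization.surj (Submonoid.powers f) a
      obtain ⟨⟨b', sb⟩, hb⟩ := IsLocalization.surj (Submonoid.powers f) b
      have hprod : algebraMap R Rf (a' * b') = 0 := by
        rw [map_mul, ← ha, ← hb]
        calc a * algebraMap R Rf sa * (b * algebraMap R Rf sb)
            = (a * b) * (algebraMap R Rf sa * algebraMap R Rf sb) := by ring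
          _ = 0 := by rw [hab, zero_mul]
      rcases hqprime.mem_or_mem ((hzero _).1 hprod) with h | h
      · left
        have h0 := (hzero a').2 h
        rw [← ha] at h0
        exact (IsLocalization.map_units Rf sa).mul_left_eq_zero.1 h0
      · right
        have h0 := (hzero b').2 h
        rw [← hb] at h0
        exact (IsLocalization.map_units Rf sb).mul_left_eq_zero.1 h0
    exact @NoZeroDivisors.to_isDomain Rf _ hnt hnzd
  refine ⟨hdom, ?_⟩
  apply IsIntegrallyClosed.of_localization_maximal
  intro P _ hP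
  have hPprime : P.IsPrime := hP.isPrime
  have hloc : IsLocalization.AtPrime (Localization.AtPrime P) (P.comap (algebraMap R Rf)) :=
    IsLocalization.isLocalization_isLocalization_atPrime_isLocalization (Submonoid.powers f)
      (Localization.AtPrime P) P
  have hcprime : (P.comap (algebraMap R Rf)).IsPrime := Ideal.comap_isPrime _ _
  have _ := (hN (P.comap (algebraMap R Rf)) hcprime).2
  let e : Localization.AtPrime (P.comap (algebraMap R Rf)) ≃ₐ[R] Localization.AtPrime P :=
    IsLocalization.algEquiv (P.comap (algebraMap R Rf)).primeCompl _ _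
  exact IsIntegrallyClosed.of_equiv e.toRingEquiv

end Groth.Agent.H53.Birat
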