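import Mathlib

set_option autoImplicit false
set_option backward.isDefEq.respectTransparency false
universe u

namespace Groth.Agent.H53.Birat

open Polynomial

/-- If `a / b` is integral over the domain `R` and `ρ : R → A` is a ring map to an integrally closed
domain with `ρ b ≠ 0`, then `ρ b` divides `ρ a`. -/
theorem exists_mul_eq_of_isIntegral_mk' {R A : Type*} [CommRing R] [IsDomain R] [CommRing A]
    [IsDomain A] [IsIntegrallyClosed A] (ρ : R →+* A) (a b : R) (hb : ρ b ≠ 0)
    (hb' : b ∈ nonZeroDivisors R)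
    (hint : IsIntegral R (IsLocalization.mk' (FractionRing R) a ⟨b, hb'⟩)) :
    ∃ c : A, ρ b * c = ρ a := by
  obtain ⟨P, hPm, hP⟩ := hint
  have hinj := IsFractionRing.injective R (FractionRing R)
  have h1 : eval₂ (algebraMap R (FractionRing R)) (algebraMap R (FractionRing R) a)
      (scaleRoots P b) = 0 := by
    apply scaleRoots_eval₂_eq_zero_of_eval₂_div_eq_zero hinj _ hb'
    rw [← IsFractionRing.mk'_eq_div (s := (⟨b, hb'⟩ : nonZeroDivisors R))]
    exact hP
  rw [eval₂_at_apply] at h1
  have h2 : eval a (scaleRoots P b) = 0 := hinj (by rw [h1, map_zero])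
  have h3 : eval (ρ a) ((P.map ρ).scaleRoots (ρ b)) = 0 := by
    rw [← map_scaleRoots _ _ _ (by rw [hPm.leadingCoeff, map_one]; exact one_ne_zero),
      eval_map, eval₂_at_apply, h2, map_zero]
  let F := FractionRing A
  let f := algebraMap A F
  have hfinj := IsFractionRing.injective A F
  have hfb : f (ρ b) ≠ 0 := fun h0 => hb (hfinj (by rw [h0, map_zero]))
  let x : F := f (ρ a) / f (ρ b)
  have hx : f (ρ b) * x = f (ρ a) := mul_div_cancel₀ _ hfb
  have h4 : eval₂ f x (P.map ρ) = 0 := by
    have h5 := scaleRoots_eval₂_mul (p := P.map ρ) f x (ρ b)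
    rw [hx, eval₂_at_apply, h3, map_zero] at h5
    exact (mul_eq_zero.1 h5.symm).resolve_left (pow_ne_zero _ hfb)
  have hxint : IsIntegral A x := ⟨P.map ρ, hPm.map ρ, h4⟩
  obtain ⟨c, hc⟩ := (IsIntegrallyClosed.isIntegral_iff (R := A) (K := F)).1 hxint
  refine ⟨c, hfinj ?_⟩
  rw [map_mul, hc]
  exact hx

end Groth.Agent.H53.Birat
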