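import Groth.Agent.H53.Birat.NormSch
import Groth.Agent.H53.Birat.BaseChange
import Groth.Agent.H53.Birat.Glue
import Groth.Agent.H53.Birat.Main
import Groth.Agent.H53.ZarGlueInt
import Groth.Agent.H53.OpenSub
import Groth.Agent.H52.Descent
import Groth.Agent.Lib.Helper54.GeomReducedBC2

set_option autoImplicit false
set_option backward.isDefEq.respectTransparency false
universe u
open CategoryTheory CategoryTheory.Limits AlgebraicGeometry TopologicalSpace AlgSp

namespace Groth.Agent.H53.Birat

open Groth.Agent.Lib.Helper54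

variable {S : Scheme.{u}}

/-- Birationality of `h_i` for a morphism of schemes `i`, in terms of the scheme. -/
theorem genericPoints_of_isBirational_yon {W V : Over S} (i : W ⟶ V)
    (h : W4stk3decentspacesp2.IsBirational ((yon S).map i)) :
    (∀ w ∈ genericPoints ↥W.left, i.left w ∈ genericPoints ↥V.left ∧
      IsIso (i.left.stalkMap w)) ∧
    Set.InjOn i.left (genericPoints ↥W.left) ∧
    genericPoints ↥V.left ⊆ i.left '' genericPoints ↥W.left := by
  have hmap : ∀ w : ↥W.left, Points.map ((yon S).map i) (Points.schemeHomeo W w) =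
      Points.schemeHomeo V (i.left w) := Points.map_yon_map_apply i
  refine ⟨?_, ?_, ?_⟩
  · intro w hw
    have hw' : Points.schemeHomeo W w ∈ genericPoints (Points ((yon S).obj W)) :=
      (mem_genericPoints_iff_of_homeomorph (Points.schemeHomeo W) w).2 hw
    have hiw := h.bijOn.mapsTo hw'
    rw [hmap] at hiw
    refine ⟨(mem_genericPoints_iff_of_homeomorph (Points.schemeHomeo V) _).1 hiw, ?_⟩
    obtain ⟨U, a, g, u, ha, hag, hau, hgu, hiso⟩ := exists_stalkIso_chart ((yon S).map i) h
      (Points.schemeHomeo W w) hw' (𝟙 ((yon S).obj V)) (repWith_id _ V) (i.left w) (hmap w).symm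
    obtain ⟨a', rfl⟩ := (yon S).map_surjective a
    have ha' : IsOpenImmersion a'.left := (repWith_yon_map_iff _ _).1 ha
    have hcomp : a' ≫ i = g := by
      apply (yon S).map_injective
      rw [Functor.map_comp, hag, Category.comp_id]
    have hcomp' : a'.left ≫ i.left = g.left := by
      rw [← hcomp]; rfl
    have hu : a'.left u = w := by
      apply (Points.schemeHomeo W).injective
      rw [← hau, Groth.Agent.H53.FibrePts.ofPt_yon_map]
      rfl
    have h1 : IsIso ((a'.left ≫ i.left).stalkMap u) := by
      rw [hcomp']; exact hiso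
    have h2 := isIso_stalkMap_of_comp a'.left i.left u
    rw [hu] at h2
    exact h2
  · intro w hw w' hw' heq
    have h1 : Points.schemeHomeo W w ∈ genericPoints (Points ((yon S).obj W)) :=
      (mem_genericPoints_iff_of_homeomorph (Points.schemeHomeo W) w).2 hw
    have h2 : Points.schemeHomeo W w' ∈ genericPoints (Points ((yon S).obj W)) :=
      (mem_genericPoints_iff_of_homeomorph (Points.schemeHomeo W) w').2 hw'
    have h3 : Points.map ((yon S).map i) (Points.schemeHomeo W w) =
        Points.map ((yon S).map i) (Points.schemeHomeo W w') := by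
      rw [hmap, hmap, heq]
    exact (Points.schemeHomeo W).injective (h.bijOn.injOn h1 h2 h3)
  · intro v hv
    have hv' : Points.schemeHomeo V v ∈ genericPoints (Points ((yon S).obj V)) :=
      (mem_genericPoints_iff_of_homeomorph (Points.schemeHomeo V) v).2 hv
    obtain ⟨x, hx, hxv⟩ := h.bijOn.surjOn hv'
    obtain ⟨w, rfl⟩ := (Points.schemeHomeo W).surjective x
    refine ⟨w, (mem_genericPoints_iff_of_homeomorph (Points.schemeHomeo W) w).1 hx, ?_⟩
    rw [hmap] at hxv
    exact (Points.schemeHomeo V).injective hxv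

/-- Local rings of an open subscheme. -/
theorem stalk_normal_of_opens {T : Scheme.{u}} (T₀ : T.Opens)
    (h : ∀ t : T, IsDomain (T.presheaf.stalk t) ∧ IsIntegrallyClosed (T.presheaf.stalk t))
    (v : T₀.toScheme) :
    IsDomain (T₀.toScheme.presheaf.stalk v) ∧
      IsIntegrallyClosed (T₀.toScheme.presheaf.stalk v) := by
  let e : T.presheaf.stalk (T₀.ι v) ≃+* T₀.toScheme.presheaf.stalk v :=
    (asIso (T₀.ι.stalkMap v)).commRingCatIsoToRingEquiv
  have _ := (h (T₀.ι v)).1
  have _ := (h (T₀.ι v)).2
  exact ⟨e.toMulEquiv.isDomain_iff.1 inferInstance, IsIntegrallyClosed.of_equiv e⟩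

/-- S10438. -/
theorem isIso_of_isIntegralMor_isBirational_of_normal {X Y : Sp S} (hX : IsAlgSpace X)
    (hXd : IsDecent X) (hY : IsAlgSpace Y) (hYd : IsDecent Y)
    (hYf : (irreducibleComponents (Points Y)).Finite) (f : X ⟶ Y) (hi : IsIntegralMor f)
    (hf : W4stk3decentspacesp2.IsBirational f)
    (hYn : EtaleLocally (fun T => ∀ t : ↥T, IsDomain ↥(T.presheaf.stalk t) ∧
      IsIntegrallyClosed ↥(T.presheaf.stalk t)) Y)
    (hXr : EtaleLocally (fun T => IsReduced T) X) : IsIso f := by
  have hi' : RepWith @IsIntegralHom f := (ZarGlue.isIntegralMor_iff_repWith f).1 hi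
  have hrep := hi'.rep
  obtain ⟨T, p, hpe, hps, hTn⟩ := hYn
  let W : Over S := hrep.pullback p
  let iT : W ⟶ T := hrep.snd p
  have sqT : IsPullback (hrep.fst p) ((yon S).map iT) f p := hrep.isPullback p
  have hfstE : RepWith @Etale (hrep.fst p) := MorphismProperty.of_isPullback sqT.flip hpe
  have hWred : IsReduced W.left := isReduced_chart_of_etaleLocally hXr (hrep.fst p) hfstE
  have hint : IsIntegralHom iT.left := hi'.property_snd p
  have hiso : IsIso iT.left := by
    change MorphismProperty.isomorphisms Scheme iT.left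
    apply IsZariskiLocalAtTarget.of_forall_exists_morphismRestrict
    intro t
    obtain ⟨T₀, hT₀, htT₀⟩ := GenFin.exists_affineOpen_mem T.left t
    refine ⟨T₀, htT₀, ?_⟩
    have _ : IsAffine (ZarGlue.ov T T₀).left := hT₀
    have sq₀ := ZarGlue.isPullback_restrict sqT T₀
    have hb : RepWith @Etale ((yon S).map (ZarGlue.ovι T T₀) ≫ p) := by
      have hE : (RepWith (S := S) @Etale).IsMultiplicative := repWith_isMultiplicative _
      refine hE.comp_mem _ _ ((repWith_yon_map_iff _ _).2 ?_) hpe
      exact inferInstanceAs (Etale T₀.ι)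
    obtain ⟨-, -, -, hbir⟩ :=
      isBirational_baseChange_affine_etale hX hXd hY hYd hYf f hf _ hb _ _ sq₀
    obtain ⟨h1, h2, h3⟩ := genericPoints_of_isBirational_yon _ hbir
    have _ : IsAffine T₀.toScheme := hT₀
    have _ : IsIntegralHom (iT.left ∣_ T₀) :=
      MorphismProperty.of_isPullback (isPullback_morphismRestrict iT.left T₀).flip hint
    have _ : IsReduced (iT.left ⁻¹ᵁ T₀).toScheme := inferInstance
    exact isIso_of_isIntegralHom_of_normal (iT.left ∣_ T₀) (stalk_normal_of_opens T₀ hTn) h1 h2 h3
  have hg' : RepWith (MorphismProperty.isomorphisms Scheme) ((yon S).map iT) :=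
    (repWith_yon_map_iff _ _).2 hiso
  have hdesc := H52.repWith_of_etale_surjective_base_change
    (MorphismProperty.isomorphisms Scheme) sqT hrep hpe hps hg'
  exact isIso_of_repWith_isomorphisms f hdesc

end Groth.Agent.H53.Birat
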