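import Groth.Agent.H53.Birat.NormSch2
import Groth.Agent.H53.Birat.Normal

set_option autoImplicit false
set_option backward.isDefEq.respectTransparency false
universe u
open CategoryTheory CategoryTheory.Limits AlgebraicGeometry TopologicalSpace AlgSp

namespace Groth.Agent.H53.Birat

open Groth.Agent.Lib.Helper54

variable {S : Scheme.{u}}

/-- A quasi-compact étale chart of a decent space with finitely many irreducible components has
finitely many generic points. -/
theorem finite_genericPoints_chart {Y : Sp S} (hY : IsAlgSpace Y) (hYd : IsDecent Y)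
    (hYf : (irreducibleComponents (Points Y)).Finite) {V : Over S} [CompactSpace ↥V.left]
    (b : (yon S).obj V ⟶ Y) (hb : RepWith @Etale b) : (genericPoints ↥V.left).Finite := by
  have hVa : IsAlgSpace ((yon S).obj V) := IsAlgSpace.yon_obj V
  have hVd : IsDecent ((yon S).obj V) := isDecent_yon_obj V
  have := t0Space_points_of_isDecent hY hYd
  have hgenV : ∀ v : ↥V.left, Points.ofScheme V v ∈ genericPoints (Points ((yon S).obj V)) ↔
      Points.ofPt b v ∈ genericPoints (Points Y) := by
    intro v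
    have h1 := ringKrullDim_stalk_eq_zero_iff_of_isDecent hVa hVd (𝟙 _)
      (repWith_id (@Etale : MorphismProperty Scheme.{u}) V) v
    have h2 := ringKrullDim_stalk_eq_zero_iff_of_isDecent hY hYd b hb v
    exact h1.symm.trans h2
  have hfib : ∀ η ∈ genericPoints (Points Y), (Points.ofPt b ⁻¹' {η}).Finite := by
    intro η _
    obtain ⟨p, rfl, -, hq⟩ := hYd η
    exact finite_fibre_of_quasiCompact_point p hq b hb
  refine ((finite_genericPoints hYf).biUnion hfib).subset ?_
  intro v hv
  have hv' : Points.schemeHomeo V v ∈ genericPoints (Points ((yon S).obj V)) :=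
    (mem_genericPoints_iff_of_homeomorph (Points.schemeHomeo V) v).2 hv
  exact Set.mem_iUnion₂.2 ⟨_, (hgenV v).1 hv', rfl⟩

/-- S10492. -/
theorem exists_normal_integral_chart {X : Sp S} (hX : IsAlgSpace X) (hXi : IsIntegralSp X)
    (hXn : EtaleLocally (fun U => ∀ u : ↥U, IsDomain ↥(U.presheaf.stalk u) ∧
      IsIntegrallyClosed ↥(U.presheaf.stalk u)) X) (x : Points X) :
    ∃ (U : Over S) (a : (yon S).obj U ⟶ X), RepWith @Etale a ∧ IsAffine U.left ∧
      IsIntegral U.left ∧ IsIntegrallyClosed ↥Γ(U.left, ⊤) ∧ x ∈ Set.range (Points.ofPt a) := by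
  obtain ⟨-, hXd, hirr⟩ := hXi
  obtain ⟨T, p, hpe, hps, hTn⟩ := hXn
  obtain ⟨t, rfl⟩ := surjective_ofPt_of_surjective p hps x
  obtain ⟨T₀, hT₀, htT₀⟩ := GenFin.exists_affineOpen_mem T.left t
  have hE : (RepWith (S := S) @Etale).IsMultiplicative := repWith_isMultiplicative _
  have hVaff : IsAffine (ZarGlue.ov T T₀).left := hT₀
  have hb : RepWith @Etale ((yon S).map (ZarGlue.ovι T T₀) ≫ p) := by
    refine hE.comp_mem _ _ ((repWith_yon_map_iff _ _).2 ?_) hpe
    exact inferInstanceAs (Etale T₀.ι)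
  have hXf : (irreducibleComponents (Points X)).Finite := by
    rw [irreducibleComponents_eq_singleton]
    exact Set.finite_singleton _
  have hfin : (genericPoints ↥T₀.toScheme).Finite :=
    finite_genericPoints_chart hX hXd hXf (V := ZarGlue.ov T T₀) _ hb
  have _ : IsAffine T₀.toScheme := hT₀
  obtain ⟨f, htf, haff, hint, hic⟩ :=
    exists_basicOpen_normal hfin (stalk_normal_of_opens T₀ hTn) ⟨t, htT₀⟩
  refine ⟨ZarGlue.ov (ZarGlue.ov T T₀) (T₀.toScheme.basicOpen f),
    (yon S).map (ZarGlue.ovι (ZarGlue.ov T T₀) (T₀.toScheme.basicOpen f)) ≫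
      ((yon S).map (ZarGlue.ovι T T₀) ≫ p), ?_, haff, hint, hic, ⟨⟨⟨t, htT₀⟩, htf⟩, ?_⟩⟩
  · refine hE.comp_mem _ _ ((repWith_yon_map_iff _ _).2 ?_) hb
    exact inferInstanceAs (Etale (T₀.toScheme.basicOpen f).ι)
  · rw [H53.ofPt_yon_map_comp, H53.ofPt_yon_map_comp]
    rfl

end Groth.Agent.H53.Birat
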