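import Groth.Agent.H53.Birat.NormGlue
import Groth.Agent.H53.Birat.NormAlg4
import Groth.Agent.Lib.Helper54.GlobalSecDomain
import Groth.Agent.Lib.Helper54.Transfer
import Groth.Agent.Lib.Helper24.SmoothNormalStalk

set_option autoImplicit false
set_option backward.isDefEq.respectTransparency false
universe u
open CategoryTheory CategoryTheory.Limits AlgebraicGeometry TopologicalSpace AlgSp Opposite

namespace Groth.Agent.H53.Birat

open Groth.Agent.Lib.Helper54

variable {S : Scheme.{u}}

/-- If a sheaf is étale locally normal, then every scheme étale over it has normal local rings. -/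
theorem normal_chart_of_etaleLocally {Y : Sp S}
    (h : EtaleLocally (fun U => ∀ u : ↥U, IsDomain ↥(U.presheaf.stalk u) ∧
      IsIntegrallyClosed ↥(U.presheaf.stalk u)) Y)
    {V : Over S} (b : (yon S).obj V ⟶ Y) (hb : RepWith @Etale b) (v : ↥V.left) :
    IsDomain ↥(V.left.presheaf.stalk v) ∧ IsIntegrallyClosed ↥(V.left.presheaf.stalk v) := by
  obtain ⟨U, p, hpe, hps, hU⟩ := h
  obtain ⟨W, α, β, hα, sq, -⟩ := exists_chart_square (𝟙 Y) b hb p hpe
  have hb' : RepWith @Etale (b ≫ 𝟙 Y) := by rw [Category.comp_id]; exact hb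
  have hβ : Etale β.left := hb'.property p _ β sq
  have hαs : Surjective α.left := surjective_left_of_chart_square hps sq
  obtain ⟨w, rfl⟩ := hαs.surj v
  have hw : w ∈ β.left.smoothLocus := by
    rw [(Scheme.Hom.smoothLocus_eq_top_iff).mpr inferInstance]; trivial
  have h1 := Groth.Agent.Lib.Helper24.isIntegrallyClosed_stalk_of_formallySmooth_stalkMap β.left w hw
    (hU (β.left w))
  exact Groth.Agent.Lib.Helper24.isIntegrallyClosed_stalk_of_flat_stalkMap α.left w
    (Flat.stalkMap α.left w) h1

variable {X : Sp S}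

/-- On an integral space, a nonzero global function has nonzero germs everywhere. -/
theorem germ_gsec_ne_zero (hXi : IsIntegralSp X) (b : ↥(gsectEt (OEt X))) (hb : b ≠ 0)
    (E : EtOver X) (e : ↥E.obj.left.left) :
    E.obj.left.left.presheaf.germ ⊤ e trivial (gsec b E) ≠ 0 := by
  intro h0
  obtain ⟨hred, -, hirr⟩ := hXi
  have hred' := Groth.Agent.H53.hasAt_isReduced_of_isReducedSp hred
  have h0' : E.obj.left.left.presheaf.germ ⊤ e trivial (gsec b E) =
      E.obj.left.left.presheaf.germ ⊤ e trivial 0 := by rw [h0, map_zero]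
  obtain ⟨W, heW, i₁, i₂, hW⟩ := TopCat.Presheaf.germ_eq E.obj.left.left.presheaf
    (U := ⊤) (V := ⊤) e trivial trivial _ _ h0'
  rw [map_zero] at hW
  have hO : IsOpen (Points.ofPt E.obj.hom '' (W : Set ↥E.obj.left.left)) :=
    Groth.Agent.H53.isOpenMap_ofPt_of_etale E.obj.hom E.property _ W.2
  have hOne : (Points.ofPt E.obj.hom '' (W : Set ↥E.obj.left.left)).Nonempty :=
    ⟨_, e, heW, rfl⟩
  have hDne : (gD b).Nonempty := by
    rw [Set.nonempty_iff_ne_empty]
    exact fun h => hb (eq_zero_of_gD_eq_empty hred' b h)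
  obtain ⟨x, ⟨u, huW, rfl⟩, hx⟩ := nonempty_preirreducible_inter hO (isOpen_gD b) hOne hDne
  simp only [gD, Set.mem_iUnion] at hx
  obtain ⟨E', e', he', hee'⟩ := hx
  obtain ⟨z, hz1, hz2⟩ := Groth.Agent.H53.exists_point_prodObj' E E' u e' hee'.symm
  have hzD : z ∈ (EtOver.prodObj E E').obj.left.left.basicOpen (gsec b (EtOver.prodObj E E')) := by
    rw [← gsec_naturality b (EtOver.prodSnd E E')]
    have : z ∈ (EtOver.prodSnd E E').hom.left.left ⁻¹ᵁ
        (E'.obj.left.left.basicOpen (gsec b E')) := by
      show (EtOver.prodSnd E E').hom.left.left z ∈ E'.obj.left.left.basicOpen (gsec b E')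
      rw [hz2]; exact he'
    rw [Scheme.preimage_basicOpen] at this
    simpa using this
  have huD : u ∈ E.obj.left.left.basicOpen (gsec b E) := by
    rw [← gsec_naturality b (EtOver.prodFst E E')] at hzD
    have : z ∈ (EtOver.prodFst E E').hom.left.left ⁻¹ᵁ
        (E.obj.left.left.basicOpen (gsec b E)) := by
      rw [Scheme.preimage_basicOpen]
      simpa using hzD
    have h2 : (EtOver.prodFst E E').hom.left.left z ∈ E.obj.left.left.basicOpen (gsec b E) := this
    rwa [hz1] at h2
  have hmem : u ∈ E.obj.left.left.basicOpen (E.obj.left.left.presheaf.map i₁.op (gsec b E)) := by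
    rw [Scheme.basicOpen_res]
    exact ⟨huW, huD⟩
  rw [hW, Scheme.basicOpen_zero] at hmem
  exact hmem

/-- An element of the ring of global functions from a compatible family. -/
theorem exists_gsect_of_compatible (c : ∀ E : EtOver X, Γ(E.obj.left.left, ⊤))
    (hc : ∀ {E E' : EtOver X} (g : E ⟶ E'), g.hom.left.left.appTop (c E') = c E) :
    ∃ s : ↥(gsectEt (OEt X)), ∀ E, gsec s E = c E := by
  have t := isLimitOfPreserves (forget CommRingCat.{u + 1}) (limit.isLimit (OEt X).obj)
  let sec : ((OEt X).obj ⋙ forget CommRingCat.{u + 1}).sections :=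
    ⟨fun j => (ULift.up (c j.unop) : ULift.{u + 1} Γ(j.unop.obj.left.left, ⊤)), by
      intro j j' f
      have := hc f.unop
      change ULift.up (f.unop.hom.left.left.appTop.hom (c j.unop)) = ULift.up (c j'.unop)
      exact congrArg ULift.up this⟩
  refine ⟨(Types.isLimitEquivSections t).symm sec, fun E => ?_⟩
  have h1 := Types.isLimitEquivSections_symm_apply t sec (op E)
  exact congrArg ULift.down h1

end Groth.Agent.H53.Birat
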