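import Groth.Agent.H53.Birat.NormGlobal

set_option autoImplicit false
set_option backward.isDefEq.respectTransparency false
universe u
open CategoryTheory CategoryTheory.Limits AlgebraicGeometry TopologicalSpace AlgSp Opposite

namespace Groth.Agent.H53.Birat

open Groth.Agent.Lib.Helper54

variable {S : Scheme.{u}} {X : Sp S}

/-- S10495. -/
theorem isIntegrallyClosed_gsectEt (hX : IsAlgSpace X) (hXi : IsIntegralSp X)
    (hXn : EtaleLocally (fun U => ∀ u : ↥U, IsDomain ↥(U.presheaf.stalk u) ∧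
      IsIntegrallyClosed ↥(U.presheaf.stalk u)) X) :
    IsDomain ↥(gsectEt (OEt X)) ∧ IsIntegrallyClosed ↥(gsectEt (OEt X)) := by
  have hdom : IsDomain ↥(gsectEt (OEt X)) := isDomain_gsectEt_of_isIntegralSp hX hXi
  refine ⟨hdom, ?_⟩
  rw [isIntegrallyClosed_iff (FractionRing ↥(gsectEt (OEt X)))]
  intro x hx
  obtain ⟨a, ⟨b, hb'⟩, rfl⟩ :=
    IsLocalization.exists_mk'_eq (nonZeroDivisors ↥(gsectEt (OEt X))) x
  have hb0 : b ≠ 0 := nonZeroDivisors.ne_zero hb'
  let ρ : ∀ E : EtOver X, ↥(gsectEt (OEt X)) →+* Γ(E.obj.left.left, ⊤) := fun E =>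
    (ULift.ringEquiv : ULift.{u + 1} Γ(E.obj.left.left, ⊤) ≃+* _).toRingHom.comp
      (limit.π (OEt X).obj (op E)).hom
  have hρ : ∀ E s, ρ E s = gsec s E := fun E s => rfl
  have hnorm : ∀ (E : EtOver X) (e : ↥E.obj.left.left),
      IsDomain ↥(E.obj.left.left.presheaf.stalk e) ∧
        IsIntegrallyClosed ↥(E.obj.left.left.presheaf.stalk e) :=
    fun E e => normal_chart_of_etaleLocally hXn E.obj.hom E.property e
  have hgerm : ∀ (E : EtOver X) (e : ↥E.obj.left.left),
      E.obj.left.left.presheaf.germ ⊤ e trivial (gsec b E) ≠ 0 := germ_gsec_ne_zero hXi b hb0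
  have hloc : ∀ E : EtOver X, ∃ c : Γ(E.obj.left.left, ⊤), gsec b E * c = gsec a E := by
    intro E
    apply exists_section_mul_eq (fun e => (hnorm E e).1) _ _ (hgerm E)
    intro e
    have _ := (hnorm E e).1
    have _ := (hnorm E e).2
    exact exists_mul_eq_of_isIntegral_mk'
      ((E.obj.left.left.presheaf.germ ⊤ e trivial).hom.comp (ρ E)) a b (hgerm E e) hb' hx
  choose c hc using hloc
  have hnat : ∀ {E E' : EtOver X} (g : E ⟶ E'), g.hom.left.left.appTop (c E') = c E := by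
    intro E E' g
    apply section_cancel (fun e => (hnorm E e).1) ⊤ (gsec b E) _ _ (fun x _ => hgerm E x)
    rw [hc E, ← gsec_naturality b g, ← map_mul, hc E', gsec_naturality a g]
  obtain ⟨s, hs⟩ := exists_gsect_of_compatible c hnat
  refine ⟨s, ?_⟩
  rw [IsLocalization.eq_mk'_iff_mul_eq, ← map_mul]
  congr 1
  apply gsec_ext
  intro E
  rw [gsec_mul, hs, mul_comm]
  exact hc E

end Groth.Agent.H53.Birat
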