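import Mathlib

set_option autoImplicit false
set_option backward.isDefEq.respectTransparency false
universe u
open CategoryTheory AlgebraicGeometry TopologicalSpace Opposite

namespace Groth.Agent.H53.Birat

/-- Cancellation of a section with nowhere vanishing germs, on a scheme with integral local
rings. -/
theorem section_cancel {E : Scheme.{u}} (hdom : ∀ e : E, IsDomain (E.presheaf.stalk e))
    (U : E.Opens) (b s s' : Γ(E, U))
    (hb : ∀ (x : E) (hx : x ∈ U), E.presheaf.germ U x hx b ≠ 0) (h : b * s = b * s') :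
    s = s' := by
  apply TopCat.Presheaf.section_ext E.sheaf U
  intro x hx
  have _ := hdom x
  have h1 := congrArg (E.presheaf.germ U x hx) h
  rw [map_mul, map_mul] at h1
  have h2 : E.presheaf.germ U x hx s = E.presheaf.germ U x hx s' :=
    mul_left_cancel₀ (hb x hx) h1
  exact h2

/-- Gluing local quotients `a / b` on a scheme with integral local rings. -/
theorem exists_section_mul_eq {E : Scheme.{u}} (hdom : ∀ e : E, IsDomain (E.presheaf.stalk e))
    (a b : Γ(E, ⊤)) (hb : ∀ e : E, E.presheaf.germ ⊤ e trivial b ≠ 0)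
    (h : ∀ e : E, ∃ c : E.presheaf.stalk e,
      E.presheaf.germ ⊤ e trivial b * c = E.presheaf.germ ⊤ e trivial a) :
    ∃ c : Γ(E, ⊤), b * c = a := by
  -- local solutions
  have hloc : ∀ e : E, ∃ (W : E.Opens) (_ : e ∈ W) (t : Γ(E, W)),
      E.presheaf.map (homOfLE le_top : W ⟶ ⊤).op b * t =
        E.presheaf.map (homOfLE le_top : W ⟶ ⊤).op a := by
    intro e
    obtain ⟨c, hc⟩ := h e
    obtain ⟨U, hU, s, rfl⟩ := TopCat.Presheaf.exists_germ_eq E.presheaf c
    have h1 : E.presheaf.germ U e hU (E.presheaf.map (homOfLE le_top : U ⟶ ⊤).op b * s) =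
        E.presheaf.germ U e hU (E.presheaf.map (homOfLE le_top : U ⟶ ⊤).op a) := by
      rw [map_mul, TopCat.Presheaf.germ_res_apply, TopCat.Presheaf.germ_res_apply]
      exact hc
    obtain ⟨W, hW, i₁, i₂, hi⟩ := TopCat.Presheaf.germ_eq E.presheaf e hU hU _ _ h1
    refine ⟨W, hW, E.presheaf.map i₁.op s, ?_⟩
    rw [map_mul] at hi
    have e1 : E.presheaf.map i₁.op (E.presheaf.map (homOfLE le_top : U ⟶ ⊤).op b) =
        E.presheaf.map (homOfLE le_top : W ⟶ ⊤).op b := by
      rw [← ConcreteCategory.comp_apply, ← E.presheaf.map_comp]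
      rfl
    have e2 : E.presheaf.map i₂.op (E.presheaf.map (homOfLE le_top : U ⟶ ⊤).op a) =
        E.presheaf.map (homOfLE le_top : W ⟶ ⊤).op a := by
      rw [← ConcreteCategory.comp_apply, ← E.presheaf.map_comp]
      rfl
    rw [e1, e2] at hi
    exact hi
  choose W hW t ht using hloc
  have hres : ∀ (V : E.Opens) (x : E) (hx : x ∈ V),
      E.presheaf.germ V x hx (E.presheaf.map (homOfLE le_top : V ⟶ ⊤).op b) ≠ 0 := by
    intro V x hx
    rw [TopCat.Presheaf.germ_res_apply]
    exact hb x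
  have hcompat : TopCat.Presheaf.IsCompatible E.sheaf.1 W t := by
    intro i j
    apply section_cancel hdom (W i ⊓ W j)
      (E.presheaf.map (homOfLE le_top : W i ⊓ W j ⟶ ⊤).op b) _ _ (hres _)
    have h1 := congrArg (E.presheaf.map (Opens.infLELeft (W i) (W j)).op) (ht i)
    have h2 := congrArg (E.presheaf.map (Opens.infLERight (W i) (W j)).op) (ht j)
    rw [map_mul] at h1 h2
    have e1 : ∀ s : Γ(E, ⊤), E.presheaf.map (Opens.infLELeft (W i) (W j)).op
        (E.presheaf.map (homOfLE le_top : W i ⟶ ⊤).op s) =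
        E.presheaf.map (homOfLE le_top : W i ⊓ W j ⟶ ⊤).op s := by
      intro s
      rw [← ConcreteCategory.comp_apply, ← E.presheaf.map_comp]
      rfl
    have e2 : ∀ s : Γ(E, ⊤), E.presheaf.map (Opens.infLERight (W i) (W j)).op
        (E.presheaf.map (homOfLE le_top : W j ⟶ ⊤).op s) =
        E.presheaf.map (homOfLE le_top : W i ⊓ W j ⟶ ⊤).op s := by
      intro s
      rw [← ConcreteCategory.comp_apply, ← E.presheaf.map_comp]
      rfl
    rw [e1, e1] at h1
    rw [e2, e2] at h2
    exact h1.trans h2.symm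
  have hcover : (⊤ : E.Opens) ≤ iSup W := fun x _ => Opens.mem_iSup.2 ⟨x, hW x⟩
  obtain ⟨c, hc, -⟩ := TopCat.Sheaf.existsUnique_gluing' E.sheaf W ⊤
    (fun i => homOfLE le_top) hcover t hcompat
  let c' : Γ(E, ⊤) := c
  refine ⟨c', ?_⟩
  apply TopCat.Sheaf.eq_of_locally_eq' E.sheaf W ⊤ (fun i => homOfLE le_top) hcover
  intro i
  have hci : E.presheaf.map (homOfLE le_top : W i ⟶ ⊤).op c' = t i := hc i
  change E.presheaf.map (homOfLE le_top : W i ⟶ ⊤).op (b * c') =
    E.presheaf.map (homOfLE le_top : W i ⟶ ⊤).op a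
  rw [map_mul, hci]
  exact ht i

end Groth.Agent.H53.Birat
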