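import Groth.Agent.H53.Birat.NormAlg2
import Groth.Agent.Lib.Helper3.IrrCompStalk

set_option autoImplicit false
set_option backward.isDefEq.respectTransparency false
universe u
open CategoryTheory AlgebraicGeometry TopologicalSpace

namespace Groth.Agent.H53.Birat

theorem mem_genericPoints_of_homeomorph_aux {X Y : Type*} [TopologicalSpace X]
    [TopologicalSpace Y] (h : X ≃ₜ Y) (x : X) (hx : x ∈ genericPoints X) :
    h x ∈ genericPoints Y := by
  refine ⟨isIrreducible_singleton.closure, ?_⟩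
  intro t ht hle
  have hs : IsIrreducible (h.symm '' t) := ht.image _ h.symm.continuous.continuousOn
  have hxs : closure ({x} : Set X) ⊆ h.symm '' t := by
    intro z hz
    refine ⟨h z, hle ?_, h.symm_apply_apply z⟩
    have : h z ∈ h '' closure ({x} : Set X) := ⟨z, hz, rfl⟩
    rw [h.image_closure, Set.image_singleton] at this
    exact this
  have hsub := hx.2 hs hxs
  intro y hy
  have h1 : h.symm y ∈ closure ({x} : Set X) := hsub ⟨y, hy, rfl⟩
  have h2 : h (h.symm y) ∈ h '' closure ({x} : Set X) := ⟨_, h1, rfl⟩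
  rw [h.image_closure, Set.image_singleton, h.apply_symm_apply] at h2
  exact h2

theorem mem_genericPoints_iff_of_homeomorph {X Y : Type*} [TopologicalSpace X]
    [TopologicalSpace Y] (h : X ≃ₜ Y) (x : X) :
    h x ∈ genericPoints Y ↔ x ∈ genericPoints X := by
  refine ⟨fun hx => ?_, mem_genericPoints_of_homeomorph_aux h x⟩
  have := mem_genericPoints_of_homeomorph_aux h.symm (h x) hx
  rwa [h.symm_apply_apply] at this

theorem mem_genericPoints_iff_of_iso {X Y : Scheme.{u}} (e : X ≅ Y) (x : X) :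
    e.hom x ∈ genericPoints Y ↔ x ∈ genericPoints X :=
  mem_genericPoints_iff_of_homeomorph (Scheme.homeoOfIso e) x

theorem isIso_stalkMap_comp_of_isIso {X Y Z T : Scheme.{u}} (a : X ⟶ Y) (i : Y ⟶ Z) (b : Z ⟶ T)
    [IsIso a] [IsIso b] (x : X) [IsIso (i.stalkMap (a x))] :
    IsIso ((a ≫ i ≫ b).stalkMap x) := by
  rw [Scheme.Hom.stalkMap_comp, Scheme.Hom.stalkMap_comp]
  infer_instance

/-- An integral morphism to an affine scheme with normal local rings from a reduced scheme, which
is "birational" (bijective on generic points with isomorphic local rings), is an isomorphism. -/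
theorem isIso_of_isIntegralHom_of_normal {W V : Scheme.{u}} (i : W ⟶ V) [IsAffine V]
    [IsIntegralHom i] [IsReduced W]
    (hN : ∀ v : V, IsDomain (V.presheaf.stalk v) ∧ IsIntegrallyClosed (V.presheaf.stalk v))
    (h1 : ∀ w ∈ genericPoints W, i w ∈ genericPoints V ∧ IsIso (i.stalkMap w))
    (h2 : Set.InjOn i (genericPoints W))
    (h3 : genericPoints V ⊆ i '' genericPoints W) : IsIso i := by
  have hWaff : IsAffine W := isAffine_of_isAffineHom i
  let φ := i.appTop
  let B : Type u := Γ(V, ⊤)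
  let A : Type u := Γ(W, ⊤)
  let _ : Algebra B A := φ.hom.toAlgebra
  have hint : Algebra.IsIntegral B A := ⟨IsIntegralHom.isIntegral_app i ⊤ (isAffineOpen_top V)⟩
  have hψ : Spec.map φ = W.isoSpec.inv ≫ i ≫ V.isoSpec.hom := by
    rw [← Scheme.isoSpec_hom_naturality, Iso.inv_hom_id_assoc]
  have hψapp : ∀ P : Spec Γ(W, ⊤), (Spec.map φ) P = V.isoSpec.hom (i (W.isoSpec.inv P)) := by
    intro P
    rw [hψ]
    rfl
  have hgenA : ∀ p : Ideal A, p ∈ minimalPrimes A →
      ∃ P : Spec Γ(W, ⊤), P ∈ genericPoints (Spec Γ(W, ⊤)) ∧ P.asIdeal = p := by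
    intro p hp
    rw [Lib.Helper3.IrrCompStalk.minimalPrimes_eq_image_genericPoints] at hp
    obtain ⟨P, hP, rfl⟩ := hp
    exact ⟨P, hP, rfl⟩
  have hgenA' : ∀ P : Spec Γ(W, ⊤), P ∈ genericPoints (Spec Γ(W, ⊤)) →
      P.asIdeal ∈ minimalPrimes A := by
    intro P hP
    rw [Lib.Helper3.IrrCompStalk.minimalPrimes_eq_image_genericPoints]
    exact ⟨P, hP, rfl⟩
  have hgenB : ∀ q : Ideal B, q ∈ minimalPrimes B →
      ∃ Q : Spec Γ(V, ⊤), Q ∈ genericPoints (Spec Γ(V, ⊤)) ∧ Q.asIdeal = q := by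
    intro q hq
    rw [Lib.Helper3.IrrCompStalk.minimalPrimes_eq_image_genericPoints] at hq
    obtain ⟨Q, hQ, rfl⟩ := hq
    exact ⟨Q, hQ, rfl⟩
  have hgenB' : ∀ Q : Spec Γ(V, ⊤), Q ∈ genericPoints (Spec Γ(V, ⊤)) →
      Q.asIdeal ∈ minimalPrimes B := by
    intro Q hQ
    rw [Lib.Helper3.IrrCompStalk.minimalPrimes_eq_image_genericPoints]
    exact ⟨Q, hQ, rfl⟩
  have hbij : Function.Bijective (algebraMap B A) := by
    apply bijective_algebraMap_of_integral_of_normal
    · intro 𝔪 h𝔪
      have _ : 𝔪.IsPrime := h𝔪.isPrime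
      let Q : Spec Γ(V, ⊤) := ⟨𝔪, inferInstance⟩
      let v : V := V.isoSpec.inv Q
      let e1 : V.presheaf.stalk v ≅ (Spec Γ(V, ⊤)).presheaf.stalk Q :=
        asIso (V.isoSpec.inv.stalkMap Q)
      let e2 := Spec.stalkIso Γ(V, ⊤) Q
      let e : V.presheaf.stalk v ≃+* Localization.AtPrime 𝔪 :=
        (e1 ≪≫ e2).commRingCatIsoToRingEquiv
      have _ := (hN v).1
      have _ := (hN v).2
      exact ⟨e.toMulEquiv.isDomain_iff.1 inferInstance, IsIntegrallyClosed.of_equiv e⟩
    · intro p hp hpprime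
      obtain ⟨P, hP, rfl⟩ := hgenA p hp
      have hw : W.isoSpec.inv P ∈ genericPoints W :=
        (mem_genericPoints_iff_of_iso W.isoSpec.symm P).2 hP
      obtain ⟨hiw, hiso⟩ := h1 _ hw
      constructor
      · have := (mem_genericPoints_iff_of_iso V.isoSpec _).2 hiw
        rw [← hψapp] at this
        exact hgenB' _ this
      · have hiso' : IsIso ((Spec.map φ).stalkMap P) := by
          rw [hψ]
          exact isIso_stalkMap_comp_of_isIso _ _ _ P
        have e := Scheme.arrowStalkMapSpecIso φ P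
        have hiso2 := ((MorphismProperty.isomorphisms CommRingCat).arrow_mk_iso_iff e).1 hiso'
        exact (ConcreteCategory.isIso_iff_bijective _).1 hiso2
    · intro p hp p' hp' heq
      obtain ⟨P, hP, rfl⟩ := hgenA p hp
      obtain ⟨P', hP', rfl⟩ := hgenA p' hp'
      have hw : W.isoSpec.inv P ∈ genericPoints W :=
        (mem_genericPoints_iff_of_iso W.isoSpec.symm P).2 hP
      have hw' : W.isoSpec.inv P' ∈ genericPoints W :=
        (mem_genericPoints_iff_of_iso W.isoSpec.symm P').2 hP'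
      have himg : (Spec.map φ) P = (Spec.map φ) P' := PrimeSpectrum.ext heq
      rw [hψapp, hψapp] at himg
      have h4 : i (W.isoSpec.inv P) = i (W.isoSpec.inv P') :=
        (Scheme.homeoOfIso V.isoSpec).injective himg
      have h5 := h2 hw hw' h4
      have h6 : P = P' := (Scheme.homeoOfIso W.isoSpec.symm).injective h5
      rw [h6]
    · intro q hq
      obtain ⟨Q, hQ, rfl⟩ := hgenB q hq
      have hv : V.isoSpec.inv Q ∈ genericPoints V :=
        (mem_genericPoints_iff_of_iso V.isoSpec.symm Q).2 hQ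
      obtain ⟨w, hw, hwv⟩ := h3 hv
      refine ⟨(W.isoSpec.hom w).asIdeal, hgenA' _ ((mem_genericPoints_iff_of_iso W.isoSpec w).2 hw),
        ?_⟩
      have h4 : (Spec.map φ) (W.isoSpec.hom w) = Q := by
        rw [hψapp, Scheme.hom_inv_apply, hwv, Scheme.inv_hom_apply]
      exact congrArg PrimeSpectrum.asIdeal h4
  have hiso : IsIso i.appTop := (ConcreteCategory.isIso_iff_bijective _).2 hbij
  exact (HasAffineProperty.iff_of_isAffine (P := MorphismProperty.isomorphisms Scheme)).2
    ⟨hWaff, hiso⟩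

end Groth.Agent.H53.Birat
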