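import Groth.Agent.H53.Birat.NormAlg3
import Groth.Agent.H53.Birat.NormSch

set_option autoImplicit false
set_option backward.isDefEq.respectTransparency false
universe u
open CategoryTheory AlgebraicGeometry TopologicalSpace

namespace Groth.Agent.H53.Birat

/-- Localizations of the coordinate ring of an affine scheme with normal local rings. -/
theorem localization_normal_of_stalk_normal {V : Scheme.{u}} [IsAffine V]
    (hN : ∀ v : V, IsDomain (V.presheaf.stalk v) ∧ IsIntegrallyClosed (V.presheaf.stalk v))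
    (𝔭 : Ideal Γ(V, ⊤)) (h𝔭 : 𝔭.IsPrime) :
    IsDomain (Localization.AtPrime 𝔭) ∧ IsIntegrallyClosed (Localization.AtPrime 𝔭) := by
  let Q : Spec Γ(V, ⊤) := ⟨𝔭, h𝔭⟩
  let v : V := V.isoSpec.inv Q
  let e1 : V.presheaf.stalk v ≅ (Spec Γ(V, ⊤)).presheaf.stalk Q :=
    asIso (V.isoSpec.inv.stalkMap Q)
  let e2 := Spec.stalkIso Γ(V, ⊤) Q
  let e : V.presheaf.stalk v ≃+* Localization.AtPrime 𝔭 :=
    (e1 ≪≫ e2).commRingCatIsoToRingEquiv
  have _ := (hN v).1
  have _ := (hN v).2
  exact ⟨e.toMulEquiv.isDomain_iff.1 inferInstance, IsIntegrallyClosed.of_equiv e⟩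

theorem finite_minimalPrimes_of_finite_genericPoints {V : Scheme.{u}} [IsAffine V]
    (hfin : (genericPoints V).Finite) : (minimalPrimes Γ(V, ⊤)).Finite := by
  rw [Lib.Helper3.IrrCompStalk.minimalPrimes_eq_image_genericPoints]
  refine Set.Finite.image _ ?_
  refine (hfin.image (fun v => V.isoSpec.hom v)).subset ?_
  intro P hP
  refine ⟨V.isoSpec.inv P, (mem_genericPoints_iff_of_iso V.isoSpec.symm P).2 hP, ?_⟩
  exact Scheme.inv_hom_apply V.isoSpec P

/-- In an affine scheme with normal local rings and finitely many irreducible components, every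
point has a basic open neighbourhood which is integral with integrally closed coordinate ring. -/
theorem exists_basicOpen_normal {V : Scheme.{u}} [IsAffine V] (hfin : (genericPoints V).Finite)
    (hN : ∀ v : V, IsDomain (V.presheaf.stalk v) ∧ IsIntegrallyClosed (V.presheaf.stalk v))
    (t : V) :
    ∃ f : Γ(V, ⊤), t ∈ V.basicOpen f ∧ IsAffineOpen (V.basicOpen f) ∧
      IsIntegral (V.basicOpen f).toScheme ∧
      IsIntegrallyClosed Γ((V.basicOpen f).toScheme, ⊤) := by
  let P₀ : Spec Γ(V, ⊤) := V.toSpecΓ t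
  have _ : P₀.asIdeal.IsPrime := P₀.isPrime
  obtain ⟨f, hf, hRf⟩ := exists_away_isDomain_isIntegrallyClosed
    (finite_minimalPrimes_of_finite_genericPoints hfin)
    (localization_normal_of_stalk_normal hN) P₀.asIdeal
  have htf : t ∈ V.basicOpen f := by
    rw [← Scheme.toSpecΓ_preimage_basicOpen]
    exact hf
  have haff : IsAffineOpen (V.basicOpen f) := (isAffineOpen_top V).basicOpen f
  have _ : IsLocalization.Away f Γ(V, V.basicOpen f) :=
    (isAffineOpen_top V).isLocalization_basicOpen f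
  obtain ⟨hdom, hic⟩ := hRf Γ(V, V.basicOpen f)
  let e : Γ(V, V.basicOpen f) ≃+* Γ((V.basicOpen f).toScheme, ⊤) :=
    (Scheme.Opens.topIso (V.basicOpen f)).symm.commRingCatIsoToRingEquiv
  have hdom' : IsDomain Γ((V.basicOpen f).toScheme, ⊤) := e.toMulEquiv.isDomain_iff.1 hdom
  have hic' : IsIntegrallyClosed Γ((V.basicOpen f).toScheme, ⊤) := IsIntegrallyClosed.of_equiv e
  have _ : IsAffine (V.basicOpen f).toScheme := haff
  have _ : Nonempty (V.basicOpen f).toScheme := ⟨⟨t, htf⟩⟩
  exact ⟨f, htf, haff, isIntegral_of_isAffine_of_isDomain _, hic'⟩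

end Groth.Agent.H53.Birat
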