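import Groth.Agent.H53.Birat.Main
import Groth.Agent.H53.Immersion
import Groth.Agent.Lib.Helper54.DecentGeneric
import Groth.Agent.Lib.Helper54.DecentSober

set_option autoImplicit false
set_option backward.isDefEq.respectTransparency false
universe u
open CategoryTheory CategoryTheory.Limits AlgebraicGeometry AlgSp Topology
open Groth.Agent.Lib.Helper54 Groth.Agent.H53.GenFin

namespace Groth.Agent.H53.Birat

variable {S : Scheme.{u}}

theorem exists_genericPoint_specializes {T : Type*} [TopologicalSpace T] [QuasiSober T] (z : T) :
    ∃ ξ ∈ genericPoints T, ξ ⤳ z := by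
  obtain ⟨x, hx⟩ := QuasiSober.sober (isIrreducible_irreducibleComponent (x := z))
    isClosed_irreducibleComponent
  refine ⟨x, ?_, hx.specializes mem_irreducibleComponent⟩
  change closure {x} ∈ irreducibleComponents T
  rw [hx.def]
  exact irreducibleComponent_mem_irreducibleComponents z

theorem dense_of_genericPoints_subset {T : Type*} [TopologicalSpace T] [QuasiSober T]
    (D : Set T) (h : genericPoints T ⊆ D) : Dense D := by
  intro z
  obtain ⟨ξ, hξ, hs⟩ := exists_genericPoint_specializes z
  exact closure_mono (Set.singleton_subset_iff.2 (h hξ)) (specializes_iff_mem_closure.1 hs)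

theorem finite_genericPoints {T : Type*} [TopologicalSpace T] [T0Space T]
    (hT : (irreducibleComponents T).Finite) : (genericPoints T).Finite := by
  refine (finite_generic_points hT).subset ?_
  intro x hx
  exact ⟨_, hx, rfl⟩

/-- In a space with finitely many irreducible components, a dense open set contains all generic
points. -/
theorem mem_of_dense_of_mem_genericPoints {T : Type*} [TopologicalSpace T]
    (hT : (irreducibleComponents T).Finite) (W : Set T) (hW : IsOpen W) (hd : Dense W) (ξ : T)
    (hξ : ξ ∈ genericPoints T) : ξ ∈ W := by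
  classical
  by_contra hn
  set Z := closure ({ξ} : Set T) with hZ
  have hZW : Z ⊆ Wᶜ := closure_minimal (Set.singleton_subset_iff.2 hn) hW.isClosed_compl
  let C : Set T := ⋃₀ (irreducibleComponents T \ {Z})
  have hCc : IsClosed C := by
    rw [show C = ⋃ Z' ∈ irreducibleComponents T \ {Z}, Z' from Set.sUnion_eq_biUnion]
    exact (hT.subset Set.sdiff_subset).isClosed_biUnion fun Z' hZ' =>
      isClosed_of_mem_irreducibleComponents Z' hZ'.1
  have hWC : W ⊆ C := by
    intro w hw
    by_cases hwZ : irreducibleComponent w = Z
    · exact absurd hw (hZW (hwZ ▸ mem_irreducibleComponent))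
    · exact ⟨irreducibleComponent w, ⟨irreducibleComponent_mem_irreducibleComponents w, hwZ⟩,
        mem_irreducibleComponent⟩
  have hZC : Z ⊆ C := fun z _ => hCc.closure_subset_iff.2 hWC (hd z)
  have hZirr : IsIrreducible Z := isIrreducible_singleton.closure
  obtain ⟨Z', hZ', hZZ'⟩ := (isIrreducible_iff_sUnion_isClosed.1 hZirr)
    (hT.subset Set.sdiff_subset).toFinset
    (fun z hz => isClosed_of_mem_irreducibleComponents z
      ((Set.Finite.mem_toFinset _).1 hz).1) (by simpa using hZC)
  have hZ'm := (Set.Finite.mem_toFinset _).1 hZ'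
  exact hZ'm.2 (hξ.eq_of_le hZ'm.1.1 hZZ').symm

theorem isOpenEmbedding_ofPt_of_isOpenImmersion {X : Sp S} (hX : IsAlgSpace X) {U : Over S}
    (a : (yon S).obj U ⟶ X) (ha : RepWith @IsOpenImmersion a) :
    IsOpenEmbedding (Points.ofPt a) := by
  have himm : RepWith @IsImmersion a :=
    Groth.Agent.H53.repWith_of_le (fun A B φ hφ => by
      have : IsOpenImmersion φ := hφ
      infer_instance) ha
  have hemb : IsEmbedding (Points.map a) :=
    (Groth.Agent.H53.isEmbedding_points_of_repWith_isImmersion hX a himm).1
  have hoe : IsOpenEmbedding (Points.map a) :=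
    ⟨hemb, ZarGlue.isOpen_range_points_map_of_isOpenImmersion a ha⟩
  have hcomp : Points.ofPt a = Points.map a ∘ (Points.schemeHomeo U) := by
    funext y
    exact Points.ofPt_eq_map_ofScheme a y
  rw [hcomp]
  exact hoe.comp (Points.schemeHomeo U).isOpenEmbedding

end Groth.Agent.H53.Birat
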